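import Groth.Agent.H81.GrpdCoeq.Sec
import Groth.Agent.Lib.SchQuot.Desc

/-!
An affine finite locally free groupoid has a universal quotient.
-/

universe u

open CategoryTheory CategoryTheory.Limits AlgebraicGeometry TopologicalSpace Opposite

namespace Groth.Agent.H81.GrpdCoeq

open Groth.Agent.Lib

theorem appLE_congr_hom {X Y : Scheme.{u}} {f g : X ⟶ Y} (h : f = g) {U : Y.Opens} {V : X.Opens}
    (e : V ≤ f ⁻¹ᵁ U) (e' : V ≤ g ⁻¹ᵁ U) (x : Γ(Y, U)) :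
    (f.appLE U V e).hom x = (g.appLE U V e').hom x := by
  subst h; rfl

theorem appLE_appLE {X Y Z : Scheme.{u}} (f : X ⟶ Y) (g : Y ⟶ Z) {U : Z.Opens} {V : Y.Opens} {W : X.Opens}
    (e₁ : V ≤ g ⁻¹ᵁ U) (e₂ : W ≤ f ⁻¹ᵁ V) (x : Γ(Z, U)) :
    (f.appLE V W e₂).hom ((g.appLE U V e₁).hom x) =
      ((f ≫ g).appLE U W (e₂.trans (f.preimage_mono e₁))).hom x :=
  congr($(Scheme.Hom.appLE_comp_appLE f g U V W e₁ e₂) x)

theorem bijective_appLE {X Y : Scheme.{u}} (f : X ⟶ Y) [IsOpenImmersion f] {A : Y.Opens} {B : X.Opens}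
    (h : A = f ''ᵁ B) (e : B ≤ f ⁻¹ᵁ A) : Function.Bijective (f.appLE A B e).hom := by
  subst h
  rw [← Scheme.Hom.appIso_hom']
  exact ConcreteCategory.bijective_of_isIso (f.appIso B).hom

variable {S : Scheme.{u}} (G : Grpd.GroupoidScheme S) [IsAffine G.U] [IsAffine G.R]
  [IsFinite G.s] [Flat G.s] [LocallyOfFinitePresentation G.s]

theorem isIntegralHom_toQuot : IsIntegralHom G.toQuot := by
  have := GrpdQuot.isIntegral_invariants G
  have : IsIntegralHom (Spec.map (CommRingCat.ofHom G.invariants.subtype)) :=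
    IsIntegralHom.SpecMap_iff.2 fun x => Algebra.IsIntegral.isIntegral x
  rw [Grpd.GroupoidScheme.toQuot]
  exact inferInstanceAs (IsIntegralHom (G.U.isoSpec.hom ≫ _))

theorem isOpenMap_toQuot : IsOpenMap G.toQuot := by
  have := isIntegralHom_toQuot G
  have hq : Topology.IsQuotientMap G.toQuot :=
    G.toQuot.isClosedMap.isQuotientMap G.toQuot.continuous (GrpdQuot.toQuot_surjective G)
  intro O hO
  rw [← hq.isCoinducing.isOpen_preimage]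
  have e : G.toQuot ⁻¹' (G.toQuot '' O) = G.s '' (G.t ⁻¹' O) := by
    ext x
    constructor
    · rintro ⟨o, ho, e⟩
      obtain ⟨r, hr1, hr2⟩ := (GrpdQuot.toQuot_eq_iff G o x).1 e
      exact ⟨r, show G.t r ∈ O from hr1 ▸ ho, hr2⟩
    · rintro ⟨r, hr, rfl⟩
      exact ⟨G.t r, hr, (GrpdQuot.toQuot_eq_iff G _ _).2 ⟨r, rfl, rfl⟩⟩
  rw [e]
  exact G.s.isOpenMap _ (hO.preimage G.t.continuous)

theorem isQ_toQuot : IsQ G (𝟙 G.U) G.toQuot := by
  refine ⟨fun r => ⟨fun _ => ⟨G.t r, rfl⟩, fun _ => ⟨G.s r, rfl⟩⟩, fun T r a b ha hb => ?_,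
    GrpdQuot.toQuot_surjective G, isOpenMap_toQuot G, fun x x' e => ?_, ?_⟩
  · rw [Category.comp_id] at ha hb
    rw [ha, hb, Category.assoc, Category.assoc, s_toQuot_gen]
  · obtain ⟨r, h1, h2⟩ := (GrpdQuot.toQuot_eq_iff G x' x).1 e.symm
    exact ⟨r, h2, h1⟩
  intro V P Z i _ i' p' sq h hh
  have : IsOpenImmersion i' := MorphismProperty.of_isPullback sq.flip inferInstance
  have hsurj : Function.Surjective p' := fun v => by
    obtain ⟨x, hx⟩ := GrpdQuot.toQuot_surjective G (i v)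
    obtain ⟨z, -, hz⟩ := Scheme.exists_preimage_of_isPullback sq x v hx
    exact ⟨z, hz⟩
  have hop : IsOpenMap p' := by
    intro O hO
    have e : (G.toQuot ∘ i' : P → SpecC G) = i ∘ p' := funext fun z => by
      simp only [Function.comp_apply, ← Scheme.Hom.comp_apply, sq.w]
    have : p' '' O = i ⁻¹' (G.toQuot '' (i' '' O)) := by
      rw [← Set.image_comp, e, Set.image_comp, Set.preimage_image_eq _ i.isOpenEmbedding.injective]
    rw [this]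
    exact (isOpenMap_toQuot G _ (i'.isOpenEmbedding.isOpenMap _ hO)).preimage i.continuous
  have himg : ∀ U' : V.Opens, G.toQuot ⁻¹ᵁ (i ''ᵁ U') = i' ''ᵁ (p' ⁻¹ᵁ U') := fun U' =>
    (IsOpenImmersion.image_preimage_eq_preimage_image_of_isPullback sq.flip U').symm
  have hle : ∀ U' : V.Opens, p' ⁻¹ᵁ U' ≤ i' ⁻¹ᵁ (G.toQuot ⁻¹ᵁ (i ''ᵁ U')) := fun U' => by
    rw [himg, Scheme.Hom.preimage_image_eq]
  have happ : ∀ (U' : V.Opens) (y₀ : Γ(SpecC G, i ''ᵁ U')),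
      (p'.app U').hom ((i.appLE (i ''ᵁ U') U' (Scheme.Hom.preimage_image_eq i U').ge).hom y₀) =
        (i'.appLE _ _ (hle U')).hom ((G.toQuot.app (i ''ᵁ U')).hom y₀) := fun U' y₀ => by
    rw [Scheme.Hom.app_eq_appLE, Scheme.Hom.app_eq_appLE, appLE_appLE, appLE_appLE]
    exact appLE_congr_hom sq.w.symm _ _ _
  refine SchQuot.Desc.existsUnique_desc p' (hop.isQuotientMap p'.continuous hsurj) (fun U' => ?_) h
    (fun x x' e => ?_) (fun W U' e σ => ?_)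
  · intro y y' hy
    obtain ⟨y₀, rfl⟩ := (bijective_appLE i rfl (Scheme.Hom.preimage_image_eq i U').ge).2 y
    obtain ⟨y₀', rfl⟩ := (bijective_appLE i rfl (Scheme.Hom.preimage_image_eq i U').ge).2 y'
    rw [happ, happ] at hy
    rw [injective_app G _ ((bijective_appLE i' (himg U') (hle U')).1 hy)]
  · obtain ⟨r, h1, h2⟩ := (GrpdQuot.toQuot_eq_iff G (i' x') (i' x)).1 (by
      rw [← Scheme.Hom.comp_apply, ← Scheme.Hom.comp_apply, sq.w, Scheme.Hom.comp_apply,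
        Scheme.Hom.comp_apply, e])
    exact Inv.apply_eq (j := i' ≫ 𝟙 G.U) hh (by rw [Category.comp_id]; exact h2)
      (by rw [Category.comp_id]; exact h1)
  obtain ⟨a₀, ha₀⟩ := (bijective_appLE i' (himg U') (hle U')).2 ((h.appLE W (p' ⁻¹ᵁ U') e).hom σ)
  let RA : G.R.Opens := G.s ⁻¹ᵁ (G.toQuot ⁻¹ᵁ (i ''ᵁ U'))
  have hRt : RA ≤ G.t ⁻¹ᵁ (G.toQuot ⁻¹ᵁ (i ''ᵁ U')) := (preimage_eq G _).le
  have hrange : ∀ (g : G.R ⟶ G.U), RA ≤ g ⁻¹ᵁ (G.toQuot ⁻¹ᵁ (i ''ᵁ U')) →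
      Set.range (RA.ι ≫ g) ⊆ Set.range i' := by
    rintro g hg _ ⟨z, rfl⟩
    have : (RA.ι ≫ g) z ∈ G.toQuot ⁻¹ᵁ (i ''ᵁ U') := hg z.2
    rw [himg] at this
    obtain ⟨w, -, hw⟩ := this
    exact ⟨w, hw⟩
  have hlift : ∀ (g : G.R ⟶ G.U) (hg : RA ≤ g ⁻¹ᵁ (G.toQuot ⁻¹ᵁ (i ''ᵁ U'))),
      (⊤ : RA.toScheme.Opens) ≤ IsOpenImmersion.lift i' (RA.ι ≫ g) (hrange g hg) ⁻¹ᵁ (p' ⁻¹ᵁ U') := by
    intro g hg z _
    have : (RA.ι ≫ g) z ∈ G.toQuot ⁻¹ᵁ (i ''ᵁ U') := hg z.2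
    rw [himg] at this
    obtain ⟨w, hw, hwz⟩ := this
    have h' : i' (IsOpenImmersion.lift i' (RA.ι ≫ g) (hrange g hg) z) = (RA.ι ≫ g) z := by
      rw [← Scheme.Hom.comp_apply, IsOpenImmersion.lift_fac]
    change IsOpenImmersion.lift i' (RA.ι ≫ g) (hrange g hg) z ∈ p' ⁻¹ᵁ U'
    exact i'.isOpenEmbedding.injective (hwz.trans h'.symm) ▸ hw
  have hkey : ∀ (g : G.R ⟶ G.U) (hg : RA ≤ g ⁻¹ᵁ (G.toQuot ⁻¹ᵁ (i ''ᵁ U'))),
      (RA.ι.appLE RA ⊤ (Scheme.Opens.ι_preimage_self RA).ge).hom ((g.appLE _ RA hg).hom a₀) =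
        ((IsOpenImmersion.lift i' (RA.ι ≫ g) (hrange g hg) ≫ h).appLE W ⊤
          ((hlift g hg).trans (Scheme.Hom.preimage_mono _ e))).hom σ := by
    intro g hg
    rw [← appLE_appLE _ h e (hlift g hg) σ, ← ha₀, appLE_appLE, appLE_appLE]
    exact appLE_congr_hom (IsOpenImmersion.lift_fac _ _ _).symm _ _ _
  have hinv : InvSec G (i ''ᵁ U') a₀ := by
    refine (bijective_appLE RA.ι ?_ (Scheme.Opens.ι_preimage_self RA).ge).1 ?_
    · rw [Scheme.Hom.image_top_eq_opensRange, Scheme.Opens.opensRange_ι]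
    refine (hkey G.s le_rfl).trans (Eq.trans ?_ (hkey G.t hRt).symm)
    exact appLE_congr_hom (hh RA.ι _ _ (by rw [Category.comp_id, IsOpenImmersion.lift_fac])
      (by rw [Category.comp_id, IsOpenImmersion.lift_fac])) _ _ _
  obtain ⟨y₀, hy₀⟩ := range_app G hinv
  exact ⟨_, (happ U' y₀).trans (by rw [hy₀, ha₀])⟩

end Groth.Agent.H81.GrpdCoeq
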