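import Groth.Agent.H81.GrpdCoeq.Aff
import Groth.Agent.Lib.GrpdQuot.Restrict
import Groth.Agent.Lib.GrpdQuot.Invariant

/-!
Invariant affine opens have quotients.
-/

universe u

open CategoryTheory CategoryTheory.Limits AlgebraicGeometry TopologicalSpace

namespace Groth.Agent.H81.GrpdCoeq

open Groth.Agent.Lib

variable {S : Scheme.{u}} (G : Grpd.GroupoidScheme S) {W : G.U.Opens} (hW : G.s ⁻¹ᵁ W = G.t ⁻¹ᵁ W)

include hW in
theorem stable_ι : Stable G W.ι := fun r => by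
  rw [Scheme.Opens.range_ι]
  exact iff_of_eq (congrArg (fun O : G.R.Opens => r ∈ O) hW)

theorem inv_of_inv_restrict {W' Z : Scheme.{u}}
    {j' : W' ⟶ W.toScheme} {h : W' ⟶ Z}
    (H : Inv (GrpdQuot.restrictGrpd G W hW) (W := W') j' h) : Inv G (j' ≫ W.ι) h := fun T r a b ha hb => by
  have hr : Set.range r ⊆ Set.range (G.s ⁻¹ᵁ W).ι := by
    rw [Scheme.Opens.range_ι]
    rintro _ ⟨z, rfl⟩
    change G.s (r z) ∈ W
    rw [← Scheme.Hom.comp_apply, ← ha, ← Category.assoc, Scheme.Hom.comp_apply]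
    exact ((a ≫ j') z).2
  let r' := IsOpenImmersion.lift (G.s ⁻¹ᵁ W).ι r hr
  refine H r' a b ?_ ?_
  · change a ≫ j' = r' ≫ GrpdQuot.sW G W
    rw [← cancel_mono W.ι, Category.assoc, Category.assoc, Scheme.Hom.resLE_comp_ι, ha,
      IsOpenImmersion.lift_fac_assoc]
  · change b ≫ j' = r' ≫ GrpdQuot.tW G W hW
    rw [← cancel_mono W.ι, Category.assoc, Category.assoc, Scheme.Hom.resLE_comp_ι, hb,
      IsOpenImmersion.lift_fac_assoc]

theorem inv_restrict_of_inv {W' Z : Scheme.{u}} {j' : W' ⟶ W.toScheme} {h : W' ⟶ Z}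
    (H : Inv G (j' ≫ W.ι) h) : Inv (GrpdQuot.restrictGrpd G W hW) (W := W') j' h := fun T r a b ha hb => by
  obtain ⟨r', rfl⟩ : ∃ r' : T ⟶ (G.s ⁻¹ᵁ W).toScheme, r' = r := ⟨r, rfl⟩
  replace ha : a ≫ j' = r' ≫ GrpdQuot.sW G W := ha
  replace hb : b ≫ j' = r' ≫ GrpdQuot.tW G W hW := hb
  refine H (r' ≫ (G.s ⁻¹ᵁ W).ι) a b ?_ ?_
  · rw [← Category.assoc, ha]
    change (r' ≫ GrpdQuot.sW G W) ≫ W.ι = _
    rw [Category.assoc, Category.assoc, Scheme.Hom.resLE_comp_ι]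
  · rw [← Category.assoc, hb]
    change (r' ≫ GrpdQuot.tW G W hW) ≫ W.ι = _
    rw [Category.assoc, Category.assoc, Scheme.Hom.resLE_comp_ι]

theorem isQ_of_restrict {Q : Scheme.{u}} {q : W.toScheme ⟶ Q}
    (H : IsQ (GrpdQuot.restrictGrpd G W hW) (𝟙 _) q) : IsQ G W.ι q := by
  refine ⟨stable_ι G hW, ?_, H.surj, H.openMap, fun x x' e => ?_, ?_⟩
  · intro T r a b ha hb
    exact inv_of_inv_restrict G hW (j' := 𝟙 W.toScheme) H.inv r a b (by rwa [Category.id_comp])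
      (by rwa [Category.id_comp])
  · obtain ⟨r, hs, ht⟩ := H.fib x x' e
    obtain ⟨r, rfl⟩ : ∃ r' : (G.s ⁻¹ᵁ W).toScheme, r' = r := ⟨r, rfl⟩
    refine ⟨(G.s ⁻¹ᵁ W).ι r, ?_, ?_⟩
    · change G.s _ = W.ι x
      rw [← Scheme.Hom.comp_apply, ← Scheme.Hom.resLE_comp_ι G.s (le_refl (G.s ⁻¹ᵁ W)), Scheme.Hom.comp_apply]
      exact congrArg W.ι hs
    · change G.t _ = W.ι x'
      rw [← Scheme.Hom.comp_apply, ← Scheme.Hom.resLE_comp_ι G.t hW.le, Scheme.Hom.comp_apply]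
      exact congrArg W.ι ht
  · intro V P Z i _ i' p' sq h hh
    refine H.univ i i' p' sq h fun T r a b ha hb => ?_
    exact inv_restrict_of_inv G hW (j' := i') hh r a b ((congrArg (a ≫ ·) (Category.comp_id i').symm).trans ha)
      ((congrArg (b ≫ ·) (Category.comp_id i').symm).trans hb)

variable [IsFinite G.s] [Flat G.s] [LocallyOfFinitePresentation G.s]

/-- The quotient of an invariant affine open. -/
theorem isQ_affine (hWa : IsAffineOpen W) : IsQ G W.ι (GrpdQuot.restrictGrpd G W hW).toQuot := by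
  have : IsAffine (GrpdQuot.restrictGrpd G W hW).U := hWa
  have : IsAffine (GrpdQuot.restrictGrpd G W hW).R := hWa.preimage G.s
  obtain ⟨h1, h2, h3⟩ := GrpdQuot.finLocFree_sW G W hW
  have : IsFinite (GrpdQuot.restrictGrpd G W hW).s := h1
  have : Flat (GrpdQuot.restrictGrpd G W hW).s := h2
  have : LocallyOfFinitePresentation (GrpdQuot.restrictGrpd G W hW).s := h3
  exact isQ_of_restrict G hW (isQ_toQuot _)

end Groth.Agent.H81.GrpdCoeq
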