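import Mathlib.AlgebraicGeometry.Restrict
import Mathlib.AlgebraicGeometry.PullbackCarrier
import Mathlib.AlgebraicGeometry.ResidueField
import Groth.Prelude.Def_Grpd

/-!
Local coequalizers of a groupoid scheme: a morphism out of an invariant open which is a universal
coequalizer over every open of the target.
-/

universe u

open CategoryTheory CategoryTheory.Limits AlgebraicGeometry

namespace Groth.Agent.H81.GrpdCoeq

variable {S : Scheme.{u}} (G : Grpd.GroupoidScheme S)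

/-- `h` takes the same value at the source and at the target of every arrow over `W`. -/
def Inv {W Z : Scheme.{u}} (j : W ⟶ G.U) (h : W ⟶ Z) : Prop :=
  ∀ ⦃T : Scheme.{u}⦄ (r : T ⟶ G.R) (a b : T ⟶ W), a ≫ j = r ≫ G.s → b ≫ j = r ≫ G.t → a ≫ h = b ≫ h

variable {G}

theorem Inv.comp {W Z Z' : Scheme.{u}} {j : W ⟶ G.U} {h : W ⟶ Z} (H : Inv G j h) (g : Z ⟶ Z') :
    Inv G j (h ≫ g) := fun T r a b ha hb => by
  rw [← Category.assoc, H r a b ha hb, Category.assoc]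

theorem Inv.restrict {W W' Z : Scheme.{u}} {j : W ⟶ G.U} {h : W ⟶ Z} (H : Inv G j h) (k : W' ⟶ W) :
    Inv G (k ≫ j) (k ≫ h) := fun T r a b ha hb => by
  rw [← Category.assoc, ← Category.assoc]
  exact H r (a ≫ k) (b ≫ k) (by rw [Category.assoc]; exact ha) (by rw [Category.assoc]; exact hb)

theorem Inv.apply_eq {W Z : Scheme.{u}} {j : W ⟶ G.U} [IsOpenImmersion j] {h : W ⟶ Z}
    (H : Inv G j h) {r : G.R} {x x' : W} (hs : G.s r = j x) (ht : G.t r = j x') : h x = h x' := by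
  let φ := G.R.fromSpecResidueField r
  obtain ⟨pt⟩ : Nonempty ↥(Spec (G.R.residueField r)) :=
    ⟨IsLocalRing.closedPoint (G.R.residueField r)⟩
  have hpt : ∀ z, φ z = r := fun z => Scheme.fromSpecResidueField_apply r z
  have h1 : Set.range (φ ≫ G.s) ⊆ Set.range j := by
    rintro _ ⟨z, rfl⟩
    exact ⟨x, by rw [Scheme.Hom.comp_apply, hpt, hs]⟩
  have h2 : Set.range (φ ≫ G.t) ⊆ Set.range j := by
    rintro _ ⟨z, rfl⟩
    exact ⟨x', by rw [Scheme.Hom.comp_apply, hpt, ht]⟩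
  let a := IsOpenImmersion.lift j (φ ≫ G.s) h1
  let b := IsOpenImmersion.lift j (φ ≫ G.t) h2
  have ha : a ≫ j = φ ≫ G.s := IsOpenImmersion.lift_fac _ _ _
  have hb : b ≫ j = φ ≫ G.t := IsOpenImmersion.lift_fac _ _ _
  have ea : a pt = x := j.isOpenEmbedding.injective (by
    rw [← Scheme.Hom.comp_apply, ha, Scheme.Hom.comp_apply, hpt, hs])
  have eb : b pt = x' := j.isOpenEmbedding.injective (by
    rw [← Scheme.Hom.comp_apply, hb, Scheme.Hom.comp_apply, hpt, ht])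
  have := congrArg (fun f => f pt) (H φ a b ha hb)
  simpa only [Scheme.Hom.comp_apply, ea, eb] using this

variable (G)

/-- The range of `j` is stable under the groupoid. -/
def Stable {W : Scheme.{u}} (j : W ⟶ G.U) : Prop :=
  ∀ r : G.R, G.s r ∈ Set.range j ↔ G.t r ∈ Set.range j

/-- `p` is a quotient of the stable open `W` by the groupoid. -/
structure IsQ {W Q : Scheme.{u}} (j : W ⟶ G.U) (p : W ⟶ Q) : Prop where
  stable : Stable G j
  inv : Inv G j p
  surj : Function.Surjective p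
  openMap : IsOpenMap p
  fib : ∀ x x' : W, p x = p x' → ∃ r : G.R, G.s r = j x ∧ G.t r = j x'
  univ : ∀ {V P Z : Scheme.{u}} (i : V ⟶ Q) [IsOpenImmersion i] (i' : P ⟶ W) (p' : P ⟶ V),
    IsPullback i' p' p i → ∀ h : P ⟶ Z, Inv G (i' ≫ j) h → ∃! h', p' ≫ h' = h

variable {G}

namespace IsQ

variable {W Q : Scheme.{u}} {j : W ⟶ G.U} {p : W ⟶ Q}

theorem desc (H : IsQ G j p) {Z : Scheme.{u}} (h : W ⟶ Z) (hh : Inv G j h) :
    ∃! h', p ≫ h' = h :=
  H.univ (𝟙 Q) (𝟙 W) p (IsPullback.of_horiz_isIso ⟨by simp⟩) h (by rwa [Category.id_comp])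

theorem hom_ext (H : IsQ G j p) {Z : Scheme.{u}} {a b : Q ⟶ Z} (e : p ≫ a = p ≫ b) : a = b :=
  (H.desc (p ≫ b) (Inv.comp H.inv b)).unique e rfl

theorem apply_eq_iff (H : IsQ G j p) [IsOpenImmersion j] (x x' : W) :
    p x = p x' ↔ ∃ r : G.R, G.s r = j x ∧ G.t r = j x' :=
  ⟨H.fib x x', fun ⟨_, hs, ht⟩ => Inv.apply_eq H.inv hs ht⟩

/-- Restriction over an open of the quotient. -/
theorem restrict (H : IsQ G j p) [IsOpenImmersion j] {V P : Scheme.{u}} (i : V ⟶ Q)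
    [IsOpenImmersion i] (i' : P ⟶ W) (p' : P ⟶ V) (sq : IsPullback i' p' p i) :
    IsQ G (i' ≫ j) p' := by
  have : IsOpenImmersion i' := MorphismProperty.of_isPullback sq.flip inferInstance
  have key : ∀ x : W, x ∈ Set.range i' ↔ p x ∈ Set.range i := by
    intro x
    constructor
    · rintro ⟨z, rfl⟩
      exact ⟨p' z, by rw [← Scheme.Hom.comp_apply, ← sq.w, Scheme.Hom.comp_apply]⟩
    · rintro ⟨v, hv⟩
      obtain ⟨z, hz, -⟩ := Scheme.exists_preimage_of_isPullback sq x v hv.symm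
      exact ⟨z, hz⟩
  refine ⟨?_, fun T r a b ha hb => ?_, ?_, ?_, ?_, ?_⟩
  · intro r
    constructor <;> rintro ⟨z, hz⟩
    · obtain ⟨x', hx'⟩ := (H.stable r).1 ⟨i' z, hz⟩
      obtain ⟨z', hz'⟩ := (key x').2 (by
        rw [← Inv.apply_eq H.inv (x := i' z) hz.symm hx'.symm]; exact (key _).1 ⟨z, rfl⟩)
      exact ⟨z', by rw [Scheme.Hom.comp_apply, hz', hx']⟩
    · obtain ⟨x', hx'⟩ := (H.stable r).2 ⟨i' z, hz⟩
      obtain ⟨z', hz'⟩ := (key x').2 (by
        rw [Inv.apply_eq H.inv (x' := i' z) hx'.symm hz.symm]; exact (key _).1 ⟨z, rfl⟩)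
      exact ⟨z', by rw [Scheme.Hom.comp_apply, hz', hx']⟩
  · rw [← cancel_mono i, Category.assoc, Category.assoc, ← sq.w]
    exact Inv.restrict H.inv i' r a b ha hb
  · intro v
    obtain ⟨x, hx⟩ := H.surj (i v)
    obtain ⟨z, -, hz⟩ := Scheme.exists_preimage_of_isPullback sq x v hx
    exact ⟨z, hz⟩
  · intro O hO
    have : p' '' O = i ⁻¹' (p '' (i' '' O)) := by
      rw [← Set.image_comp]
      have e : (p ∘ i' : P → Q) = i ∘ p' := funext fun z => by
        simp only [Function.comp_apply, ← Scheme.Hom.comp_apply, sq.w]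
      rw [e, Set.image_comp, Set.preimage_image_eq _ i.isOpenEmbedding.injective]
    rw [this]
    exact (H.openMap _ (i'.isOpenEmbedding.isOpenMap _ hO)).preimage i.continuous
  · intro z z' hzz
    obtain ⟨r, hs, ht⟩ := H.fib (i' z) (i' z') (by
      rw [← Scheme.Hom.comp_apply, ← Scheme.Hom.comp_apply, sq.w, Scheme.Hom.comp_apply,
        Scheme.Hom.comp_apply, hzz])
    exact ⟨r, hs, ht⟩
  · intro V' P' Z i₂ _ i₂' p'' sq' h hh
    exact H.univ (i₂ ≫ i) (i₂' ≫ i') p'' (sq'.paste_horiz sq) h (by rwa [Category.assoc])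

/-- The quotient of a stable open inside `W`: an open of `Q`. -/
theorem exists_factor (H : IsQ G j p) [IsOpenImmersion j] {W' : Scheme.{u}} (k : W' ⟶ W)
    [IsOpenImmersion k] (hk : Stable G (k ≫ j)) :
    ∃ (O : Q.Opens) (q₀ : W' ⟶ O.toScheme), q₀ ≫ O.ι = k ≫ p ∧ IsQ G (k ≫ j) q₀ := by
  let O : Q.Opens := ⟨p '' Set.range k, H.openMap _ k.isOpenEmbedding.isOpen_range⟩
  have hr : Set.range (k ≫ p) ⊆ Set.range O.ι := by
    rw [Scheme.Opens.range_ι]
    rintro _ ⟨z, rfl⟩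
    exact ⟨k z, ⟨z, rfl⟩, (Scheme.Hom.comp_apply _ _ _).symm⟩
  let q₀ := IsOpenImmersion.lift O.ι (k ≫ p) hr
  have hq₀ : q₀ ≫ O.ι = k ≫ p := IsOpenImmersion.lift_fac _ _ _
  have hpre : Set.range k = p ⁻¹' (O : Set Q) := by
    refine Set.Subset.antisymm (fun x hx => ⟨x, hx, rfl⟩) ?_
    rintro x ⟨_, ⟨z, rfl⟩, hx⟩
    obtain ⟨r, hs, ht⟩ := H.fib _ _ hx
    obtain ⟨z', hz'⟩ := (hk r).1 ⟨z, by rw [Scheme.Hom.comp_apply, hs]⟩
    exact ⟨z', j.isOpenEmbedding.injective (by rw [← ht, ← hz', Scheme.Hom.comp_apply])⟩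
  have sq : IsPullback k q₀ p O.ι := by
    have e : Set.range k = Set.range (p ⁻¹ᵁ O).ι := by rw [Scheme.Opens.range_ι, hpre]; rfl
    let l := IsOpenImmersion.isoOfRangeEq k (p ⁻¹ᵁ O).ι e
    have hl : l.hom ≫ (p ⁻¹ᵁ O).ι = k := IsOpenImmersion.isoOfRangeEq_hom_fac _ _ _
    refine (isPullback_morphismRestrict p O).flip.of_iso l.symm (Iso.refl _) (Iso.refl _)
      (Iso.refl _) ?_ ?_ (by simp) (by simp)
    · simp [← hl]
    · rw [← cancel_mono O.ι]; simp [hq₀, ← hl]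
  exact ⟨O, q₀, hq₀, H.restrict O.ι k q₀ sq⟩

end IsQ

end Groth.Agent.H81.GrpdCoeq
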