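import Groth.Agent.H81.GrpdCoeq.Chart

/-!
Gluing quotients of invariant opens.
-/

universe u

open CategoryTheory CategoryTheory.Limits AlgebraicGeometry TopologicalSpace

namespace Groth.Agent.H81.GrpdCoeq

open Groth.Agent.Lib Groth.Agent.Lib.GrpdQuot

theorem isPullback_of_range {W Q X Y : Scheme.{u}} (k : W ⟶ X) [IsOpenImmersion k] (q : W ⟶ Q)
    (p : X ⟶ Y) (c : Q ⟶ Y) [IsOpenImmersion c] (e : k ≫ p = q ≫ c)
    (hr : Set.range k = p ⁻¹' Set.range c) : IsPullback k q p c := by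
  have hfst : Set.range (pullback.fst p c) = Set.range k := by
    rw [Scheme.Pullback.range_fst, hr]
  let l := IsOpenImmersion.isoOfRangeEq k (pullback.fst p c) hfst.symm
  have hl : l.hom ≫ pullback.fst p c = k := IsOpenImmersion.isoOfRangeEq_hom_fac _ _ _
  refine (IsPullback.of_hasPullback p c).of_iso l.symm (Iso.refl _) (Iso.refl _) (Iso.refl _) ?_ ?_ (by simp) (by simp)
  · rw [Iso.refl_hom, Category.comp_id, Iso.symm_hom, Iso.eq_inv_comp, hl]
  · rw [← cancel_mono c, Iso.refl_hom, Category.comp_id, Iso.symm_hom, Category.assoc, ← e, Iso.eq_inv_comp,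
      ← pullback.condition, reassoc_of% hl]

variable {S : Scheme.{u}} (G : Grpd.GroupoidScheme S)

/-- Invariant opens having a quotient. -/
abbrev Good : Type u := {W : G.U.Opens // ∃ (Q : Scheme.{u}) (q : W.toScheme ⟶ Q), IsQ G W.ι q}

/-- The quotient. -/
noncomputable def quot (W : Good G) : Scheme.{u} := W.2.choose

/-- The quotient map. -/
noncomputable def proj (W : Good G) : W.1.toScheme ⟶ quot G W := W.2.choose_spec.choose

theorem isQ_proj (W : Good G) : IsQ G W.1.ι (proj G W) := W.2.choose_spec.choose_spec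

theorem inv_homOfLE {W W' : Good G} (h : W ≤ W') : Inv G W.1.ι (G.U.homOfLE h ≫ proj G W') := by
  have := Inv.restrict (isQ_proj G W').inv (G.U.homOfLE h)
  rwa [Scheme.homOfLE_ι] at this

/-- The transition maps. -/
noncomputable def trans {W W' : Good G} (h : W ≤ W') : quot G W ⟶ quot G W' :=
  ((isQ_proj G W).desc _ (inv_homOfLE G h)).choose

theorem proj_trans {W W' : Good G} (h : W ≤ W') : proj G W ≫ trans G h = G.U.homOfLE h ≫ proj G W' :=
  ((isQ_proj G W).desc _ (inv_homOfLE G h)).choose_spec.1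

theorem stable_inf (i j : Good G) : Stable G (i.1 ⊓ j.1).ι := fun r => by
  have h1 := (isQ_proj G i).stable r
  have h2 := (isQ_proj G j).stable r
  rw [Scheme.Opens.range_ι] at h1 h2 ⊢
  exact and_congr h1 h2

theorem exists_inf (i j : Good G) : ∃ l : Good G, l.1 = i.1 ⊓ j.1 := by
  obtain ⟨O, q₀, -, hq₀⟩ := (isQ_proj G i).exists_factor (G.U.homOfLE (inf_le_left : i.1 ⊓ j.1 ≤ i.1))
    (by rw [Scheme.homOfLE_ι]; exact stable_inf G i j)
  rw [Scheme.homOfLE_ι] at hq₀
  exact ⟨⟨_, _, q₀, hq₀⟩, rfl⟩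

theorem trans_isOpenImmersion {W W' : Good G} (h : W ≤ W') : IsOpenImmersion (trans G h) := by
  have hW := isQ_proj G W
  obtain ⟨O, q₀, e, hq₀⟩ := (isQ_proj G W').exists_factor (G.U.homOfLE h)
    (by rw [Scheme.homOfLE_ι]; exact hW.stable)
  rw [Scheme.homOfLE_ι] at hq₀
  obtain ⟨a, ha, -⟩ := hW.desc q₀ hq₀.inv
  obtain ⟨b, hb, -⟩ := hq₀.desc (proj G W) hW.inv
  have hab : a ≫ b = 𝟙 _ := hW.hom_ext (by rw [reassoc_of% ha, hb, Category.comp_id])
  have hba : b ≫ a = 𝟙 _ := hq₀.hom_ext (by rw [reassoc_of% hb, ha, Category.comp_id])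
  have : IsIso a := ⟨b, hab, hba⟩
  have heq : trans G h = a ≫ O.ι := hW.hom_ext (by rw [proj_trans, reassoc_of% ha, e])
  rw [heq]
  infer_instance

/-- The diagram of quotients. -/
noncomputable def diagram : Good G ⥤ Scheme.{u} where
  obj W := quot G W
  map f := trans G (leOfHom f)
  map_id W := (isQ_proj G W).hom_ext (by rw [proj_trans]; simp)
  map_comp {U V W} f g := (isQ_proj G U).hom_ext (by
    rw [proj_trans, reassoc_of% (proj_trans G (leOfHom f)), proj_trans, Scheme.homOfLE_homOfLE_assoc])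

instance {W W' : Good G} (f : W ⟶ W') : IsOpenImmersion ((diagram G).map f) :=
  trans_isOpenImmersion G (leOfHom f)

theorem homOfLE_apply' {W W' : G.U.Opens} (h : W ≤ W') (x : W.toScheme) :
    W'.ι (G.U.homOfLE h x) = W.ι x := by
  rw [← Scheme.Hom.comp_apply, Scheme.homOfLE_ι]

theorem mem_of_arrow (W : Good G) {r : G.R} {x : G.U} (hx : x ∈ W.1) (hs : G.s r = x) : G.t r ∈ W.1 := by
  have := (isQ_proj G W).stable r
  rw [Scheme.Opens.range_ι] at this
  exact this.1 (hs ▸ hx)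

instance : ((diagram G) ⋙ Scheme.forget).IsLocallyDirected := by
  refine ⟨?_⟩
  intro i j k fi fj xi xj hx
  obtain ⟨a, rfl⟩ := (isQ_proj G i).surj xi
  obtain ⟨b, rfl⟩ := (isQ_proj G j).surj xj
  replace hx : trans G (leOfHom fi) (proj G i a) = trans G (leOfHom fj) (proj G j b) := hx
  rw [← Scheme.Hom.comp_apply, ← Scheme.Hom.comp_apply, proj_trans, proj_trans,
    Scheme.Hom.comp_apply, Scheme.Hom.comp_apply] at hx
  obtain ⟨r, hs, ht⟩ := (isQ_proj G k).fib _ _ hx.symm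
  rw [homOfLE_apply'] at hs ht
  have haj : i.1.ι a ∈ j.1 := ht ▸ mem_of_arrow G j b.2 hs
  obtain ⟨l, hl⟩ := exists_inf G i j
  have hli : l ≤ i := show l.1 ≤ i.1 from hl ▸ inf_le_left
  have hlj : l ≤ j := show l.1 ≤ j.1 from hl ▸ inf_le_right
  let c : l.1.toScheme := ⟨i.1.ι a, hl ▸ ⟨a.2, haj⟩⟩
  refine ⟨l, homOfLE hli, homOfLE hlj, proj G l c, ?_, ?_⟩
  · show trans G hli (proj G l c) = _
    rw [← Scheme.Hom.comp_apply, proj_trans, Scheme.Hom.comp_apply]
    congr 1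
    apply i.1.ι.isOpenEmbedding.injective
    rw [homOfLE_apply']
    rfl
  · show trans G hlj (proj G l c) = _
    rw [← Scheme.Hom.comp_apply, proj_trans, Scheme.Hom.comp_apply]
    refine ((Inv.apply_eq (isQ_proj G j).inv (x := b) hs ?_)).symm
    rw [homOfLE_apply']
    exact ht

theorem exists_glue (hcov : IsOpenCover fun W : Good G => W.1) :
    ∃ (Y : Scheme.{u}) (p : G.U ⟶ Y) (c : ∀ W : Good G, quot G W ⟶ Y) (_ : ∀ W, IsOpenImmersion (c W))
      (w : G.s ≫ p = G.t ≫ p),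
      Nonempty (IsColimit (Cofork.ofπ p w)) ∧ Function.Surjective p ∧ IsOpenMap p ∧
      (∀ x x', p x = p x' ↔ ∃ r : G.R, G.s r = x ∧ G.t r = x') ∧
      ∀ W, IsPullback W.1.ι (proj G W) p (c W) := by
  let f : ∀ W : Good G, W.1.toScheme ⟶ colimit (diagram G) := fun W =>
    proj G W ≫ colimit.ι (diagram G) W
  have hf : ∀ {W W' : Good G} (hle : W ≤ W'), G.U.homOfLE hle ≫ f W' = f W := by
    intro W W' hle
    show G.U.homOfLE hle ≫ proj G W' ≫ colimit.ι (diagram G) W' = proj G W ≫ _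
    exact ((Category.assoc _ _ _).symm.trans
      (congrArg (fun k => k ≫ colimit.ι (diagram G) W') (proj_trans G hle).symm)).trans
      ((Category.assoc _ _ _).trans
        (congrArg (fun k => proj G W ≫ k) (colimit.w (diagram G) (homOfLE hle))))
  let 𝒰 := G.U.openCoverOfIsOpenCover _ hcov
  have hcompat : ∀ i j : Good G, pullback.fst i.1.ι j.1.ι ≫ f i = pullback.snd i.1.ι j.1.ι ≫ f j := by
    intro i j
    obtain ⟨l, hl⟩ := exists_inf G i j
    have hli : l ≤ i := show l.1 ≤ i.1 from hl ▸ inf_le_left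
    have hlj : l ≤ j := show l.1 ≤ j.1 from hl ▸ inf_le_right
    have hr : Set.range (pullback.fst i.1.ι j.1.ι ≫ i.1.ι) ⊆ Set.range l.1.ι := by
      rw [Scheme.Opens.range_ι, hl]
      rintro _ ⟨z, rfl⟩
      refine ⟨(pullback.fst i.1.ι j.1.ι z).2, ?_⟩
      rw [pullback.condition]
      exact (pullback.snd i.1.ι j.1.ι z).2
    let t := IsOpenImmersion.lift l.1.ι (pullback.fst i.1.ι j.1.ι ≫ i.1.ι) hr
    have h1 : t ≫ G.U.homOfLE hli = pullback.fst i.1.ι j.1.ι := by
      rw [← cancel_mono i.1.ι, Category.assoc, Scheme.homOfLE_ι]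
      exact IsOpenImmersion.lift_fac _ _ _
    have h2 : t ≫ G.U.homOfLE hlj = pullback.snd i.1.ι j.1.ι := by
      rw [← cancel_mono j.1.ι, Category.assoc, Scheme.homOfLE_ι, ← pullback.condition]
      exact IsOpenImmersion.lift_fac _ _ _
    rw [← h1, ← h2, Category.assoc, Category.assoc, hf hli, hf hlj]
  let p : G.U ⟶ colimit (diagram G) := 𝒰.glueMorphisms f hcompat
  have hp : ∀ W : Good G, W.1.ι ≫ p = proj G W ≫ colimit.ι (diagram G) W := fun W =>
    𝒰.ι_glueMorphisms f hcompat W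
  have hpx : ∀ (W : Good G) (x : W.1.toScheme), p (W.1.ι x) = colimit.ι (diagram G) W (proj G W x) :=
    fun W x => congrArg (fun f : W.1.toScheme ⟶ _ => f x) (hp W)
  have hmem : ∀ x : G.U, ∃ (V : Good G) (a : V.1.toScheme), V.1.ι a = x := fun x => by
    obtain ⟨V, hV⟩ := Opens.mem_iSup.mp (show x ∈ ⨆ V : Good G, V.1 from hcov.symm ▸ trivial)
    exact ⟨V, ⟨x, hV⟩, rfl⟩
  have key : ∀ (W : Good G) (a : W.1.toScheme) (x : G.U), p x = p (W.1.ι a) →
      ∃ r : G.R, G.s r = W.1.ι a ∧ G.t r = x := by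
    intro W a x hx
    obtain ⟨V, b, rfl⟩ := hmem x
    rw [hpx, hpx] at hx
    obtain ⟨l, fl, fV, w, hw1, hw2⟩ := (Scheme.IsLocallyDirected.ι_eq_ι_iff (diagram G)).mp hx.symm
    obtain ⟨d, rfl⟩ := (isQ_proj G l).surj w
    replace hw1 : trans G (leOfHom fl) (proj G l d) = proj G W a := hw1
    replace hw2 : trans G (leOfHom fV) (proj G l d) = proj G V b := hw2
    rw [← Scheme.Hom.comp_apply, proj_trans, Scheme.Hom.comp_apply] at hw1 hw2
    obtain ⟨r₁, hs₁, ht₁⟩ := (isQ_proj G W).fib _ _ hw1.symm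
    obtain ⟨r₂, hs₂, ht₂⟩ := (isQ_proj G V).fib _ _ hw2
    rw [homOfLE_apply'] at ht₁ hs₂
    obtain ⟨r, htr, hsr⟩ := exists_comp_point G r₂ r₁ (hs₂.trans ht₁.symm)
    exact ⟨r, hsr.trans hs₁, htr.trans ht₂⟩
  have hw : G.s ≫ p = G.t ≫ p := by
    refine (G.R.openCoverOfIsOpenCover (fun W : Good G => G.s ⁻¹ᵁ W.1) ?_).hom_ext _ _ fun (W : Good G) => ?_
    · rw [IsOpenCover, eq_top_iff]
      intro r _
      obtain ⟨V, a, ha⟩ := hmem (G.s r)
      exact Opens.mem_iSup.mpr ⟨V, show G.s r ∈ V.1 from ha ▸ a.2⟩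
    show (G.s ⁻¹ᵁ W.1).ι ≫ G.s ≫ p = (G.s ⁻¹ᵁ W.1).ι ≫ G.t ≫ p
    have hr : ∀ g : G.R ⟶ G.U, (∀ r : G.R, G.s r ∈ W.1 → g r ∈ W.1) →
        Set.range ((G.s ⁻¹ᵁ W.1).ι ≫ g) ⊆ Set.range W.1.ι := by
      rintro g hg _ ⟨z, rfl⟩
      rw [Scheme.Opens.range_ι]
      exact hg _ z.2
    have hls := IsOpenImmersion.lift_fac W.1.ι _ (hr G.s fun _ h => h)
    have hlt := IsOpenImmersion.lift_fac W.1.ι _ (hr G.t fun r h => mem_of_arrow G W h rfl)
    rw [← reassoc_of% hls, ← reassoc_of% hlt, hp]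
    exact ((Category.assoc _ _ _).symm.trans
      (congrArg (fun k => k ≫ colimit.ι (diagram G) W) ((isQ_proj G W).inv _ _ _ hls hlt))).trans
      (Category.assoc _ _ _)
  have hfib : ∀ x x', p x = p x' ↔ ∃ r : G.R, G.s r = x ∧ G.t r = x' := by
    refine fun x x' => ⟨fun h => ?_, ?_⟩
    · obtain ⟨W, a, rfl⟩ := hmem x
      exact key W a x' h.symm
    · rintro ⟨r, rfl, rfl⟩
      rw [← Scheme.Hom.comp_apply, ← Scheme.Hom.comp_apply, hw]
  refine ⟨colimit (diagram G), p, fun W => colimit.ι (diagram G) W, fun W => (inferInstance : IsOpenImmersion (colimit.ι (diagram G) W)), hw, ⟨?_⟩, ?_, ?_, hfib, ?_⟩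
  · refine Cofork.IsColimit.mk' _ fun s => ?_
    have hinv : ∀ W : Good G, Inv G W.1.ι (W.1.ι ≫ s.π) := fun W {T} r a b ha hb => by
      rw [← Category.assoc, ha, ← Category.assoc, hb, Category.assoc, Category.assoc, s.condition]
    choose g hg hgu using fun W : Good G => (isQ_proj G W).desc _ (hinv W)
    have hgc : ∀ {W W' : Good G} (f : W ⟶ W'), (diagram G).map f ≫ g W' = g W := fun {W W'} f => by
      refine hgu W _ ?_
      show proj G W ≫ trans G (leOfHom f) ≫ g W' = _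
      rw [reassoc_of% (proj_trans G (leOfHom f)), hg, Scheme.homOfLE_ι_assoc]
    let l : colimit (diagram G) ⟶ s.pt := colimit.desc (diagram G)
      { pt := s.pt
        ι := { app := g, naturality := fun W W' f => (hgc f).trans (Category.comp_id _).symm } }
    have hl : ∀ W, colimit.ι (diagram G) W ≫ l = g W := fun W => colimit.ι_desc _ _
    refine ⟨l, ?_, fun {m} hm => ?_⟩
    · refine 𝒰.hom_ext _ _ fun (W : Good G) => ?_
      show W.1.ι ≫ p ≫ l = W.1.ι ≫ s.π
      rw [reassoc_of% hp W]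
      exact (Category.assoc _ _ _).trans ((congrArg (proj G W ≫ ·) (hl W)).trans (hg W))
    · refine colimit.hom_ext (F := diagram G) fun W => ?_
      rw [hl]
      refine hgu W _ ?_
      have := congrArg (W.1.ι ≫ ·) hm
      refine Eq.trans ?_ this
      exact ((Category.assoc _ _ _).symm.trans (congrArg (fun k => k ≫ m) (hp W).symm)).trans (Category.assoc _ _ _)
  · intro y
    obtain ⟨W, z, rfl⟩ := Scheme.IsLocallyDirected.ι_jointly_surjective (diagram G) y
    obtain ⟨a, rfl⟩ := (isQ_proj G W).surj z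
    exact ⟨_, hpx W a⟩
  · intro O hO
    have : p '' O = ⋃ W : Good G, colimit.ι (diagram G) W '' (proj G W '' (W.1.ι ⁻¹' O)) := by
      ext y
      simp only [Set.mem_image, Set.mem_iUnion, Set.mem_preimage]
      constructor
      · rintro ⟨x, hx, rfl⟩
        obtain ⟨W, a, rfl⟩ := hmem x
        exact ⟨W, _, ⟨a, hx, rfl⟩, (hpx W a).symm⟩
      · rintro ⟨W, _, ⟨a, ha, rfl⟩, rfl⟩
        exact ⟨_, ha, hpx W a⟩
    rw [this]
    exact isOpen_iUnion fun W => (colimit.ι (diagram G) W).isOpenEmbedding.isOpenMap _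
      ((isQ_proj G W).openMap _ (hO.preimage W.1.ι.continuous))
  · intro W
    refine @isPullback_of_range _ _ _ _ W.1.ι inferInstance (proj G W) p (colimit.ι (diagram G) W)
      (inferInstance : IsOpenImmersion (colimit.ι (diagram G) W)) (hp W) (Set.Subset.antisymm ?_ ?_)
    · rintro _ ⟨a, rfl⟩
      exact ⟨_, (hpx W a).symm⟩
    · rintro x ⟨z, hz⟩
      obtain ⟨a, rfl⟩ := (isQ_proj G W).surj z
      obtain ⟨r, hs, ht⟩ := key W a x (hz.symm.trans (hpx W a).symm)
      rw [Scheme.Opens.range_ι]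
      exact ht ▸ mem_of_arrow G W a.2 hs

end Groth.Agent.H81.GrpdCoeq
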