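import Groth.Agent.H81.GrpdCoeq.Glue
import Groth.Agent.Lib.GrpdQuot.Equiv
import Groth.Agent.H63.GrpdBasic
import Mathlib.FieldTheory.IsAlgClosed.AlgebraicClosure

/-!
Coequalizers of finite locally free groupoids with orbits inside affine opens.
-/

universe u

open CategoryTheory CategoryTheory.Limits AlgebraicGeometry TopologicalSpace

namespace Groth.Agent.H81.GrpdCoeq

open Groth.Agent.Lib

variable {S : Scheme.{u}} (G : Grpd.GroupoidScheme S)
  [IsFinite G.s] [Flat G.s] [LocallyOfFinitePresentation G.s]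

instance finite_t : IsFinite G.t := by
  rw [← G.i_s]; infer_instance

instance flat_t : Flat G.t := by
  rw [← G.i_s]; infer_instance

instance lfp_t : LocallyOfFinitePresentation G.t := by
  rw [← G.i_s]; infer_instance

/-- The affine quotient of an invariant open. -/
noncomputable abbrev qW (V : G.U.Opens) (hV : G.s ⁻¹ᵁ V = G.t ⁻¹ᵁ V) :
    V.toScheme ⟶ SpecC (GrpdQuot.restrictGrpd G V hV) :=
  (GrpdQuot.restrictGrpd G V hV).toQuot

/-- The property of a coequalizer. -/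
structure IsGood {Y : Scheme.{u}} (p : G.U ⟶ Y) : Prop where
  cond : G.s ≫ p = G.t ≫ p
  colim : Nonempty (IsColimit (Cofork.ofπ p cond))
  integral : IsIntegralHom p
  surj : Function.Surjective p
  openMap : IsOpenMap p
  fib : ∀ x x', p x = p x' ↔ ∃ r : G.R, G.s r = x ∧ G.t r = x'
  pair : ∀ (x : ↥(pullback p p)), ∃ r : G.R, (pullback.lift G.t G.s cond.symm) r = x
  affine : IsAffine G.U → IsAffine Y
  free : Mono G.j → (IsFinite p ∧ Flat p ∧ LocallyOfFinitePresentation p) ∧ IsPullback G.t G.s p p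

theorem affine_chart {V : G.U.Opens} (hV : G.s ⁻¹ᵁ V = G.t ⁻¹ᵁ V) (hVa : IsAffineOpen V) :
    IsAffine (GrpdQuot.restrictGrpd G V hV).U ∧ IsAffine (GrpdQuot.restrictGrpd G V hV).R :=
  ⟨hVa, hVa.preimage G.s⟩

theorem finite_chart {V : G.U.Opens} (hV : G.s ⁻¹ᵁ V = G.t ⁻¹ᵁ V) :
    (IsFinite (GrpdQuot.restrictGrpd G V hV).s ∧ Flat (GrpdQuot.restrictGrpd G V hV).s ∧
      LocallyOfFinitePresentation (GrpdQuot.restrictGrpd G V hV).s) ∧
    IsFinite (GrpdQuot.restrictGrpd G V hV).t :=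
  ⟨GrpdQuot.finLocFree_sW G V hV, (GrpdQuot.finLocFree_tW G V hV).1⟩

theorem exists_chart {Y : Scheme.{u}} {p : G.U ⟶ Y}
    (c₀ : ∀ W : Good G, quot G W ⟶ Y) [∀ W, IsOpenImmersion (c₀ W)]
    (hsq₀ : ∀ W, IsPullback W.1.ι (proj G W) p (c₀ W)) {V : G.U.Opens}
    (hV : G.s ⁻¹ᵁ V = G.t ⁻¹ᵁ V) (hVa : IsAffineOpen V) :
    ∃ c : SpecC (GrpdQuot.restrictGrpd G V hV) ⟶ Y, IsOpenImmersion c ∧
      IsPullback V.ι (qW G V hV) p c := by
  have hQ : IsQ G V.ι (qW G V hV) := isQ_affine G hV hVa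
  let W' : Good G := ⟨V, _, _, hQ⟩
  have hP := isQ_proj G W'
  obtain ⟨a, ha, -⟩ := hQ.desc (proj G W') hP.inv
  obtain ⟨b, hb', -⟩ := hP.desc _ hQ.inv
  have hab : a ≫ b = 𝟙 _ := hQ.hom_ext (by rw [reassoc_of% ha, hb', Category.comp_id])
  have hba : b ≫ a = 𝟙 _ := hP.hom_ext (by rw [reassoc_of% hb', ha, Category.comp_id])
  have : IsIso a := ⟨b, hab, hba⟩
  refine ⟨a ≫ c₀ W', inferInstance, (hsq₀ W').of_iso (Iso.refl _) (Iso.refl _) (asIso a).symm (Iso.refl _)
    (by simp; rfl) (by simp [← ha]) (by simp) (by simp)⟩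

section Abstract

variable {Y : Scheme.{u}} {p : G.U ⟶ Y} (W : G.U → G.U.Opens)
  (hWm : ∀ u, u ∈ W u) (hW : ∀ u, G.s ⁻¹ᵁ W u = G.t ⁻¹ᵁ W u)
  {Q : G.U → Scheme.{u}} (q : ∀ u, (W u).toScheme ⟶ Q u) (c : ∀ u, Q u ⟶ Y) [∀ u, IsOpenImmersion (c u)]
  (hsq : ∀ u, IsPullback (W u).ι (q u) p (c u))

include hsq in
omit [IsFinite G.s] [Flat G.s] [LocallyOfFinitePresentation G.s] in
theorem mem_of_range {u x : G.U} (hx : p x ∈ Set.range (c u)) : x ∈ W u := by
  obtain ⟨y, hy⟩ := hx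
  obtain ⟨z, hz, -⟩ := Scheme.exists_preimage_of_isPullback (hsq u) x y hy.symm
  exact hz ▸ z.2

include hWm hsq in
omit [IsFinite G.s] [Flat G.s] [LocallyOfFinitePresentation G.s] in
theorem apply_mem_range (u : G.U) : p u ∈ Set.range (c u) := by
  exact ⟨q u ⟨u, hWm u⟩, (congrArg (fun f : (W u).toScheme ⟶ Y => f ⟨u, hWm u⟩) (hsq u).w).symm⟩

include hWm hsq in
omit [IsFinite G.s] [Flat G.s] [LocallyOfFinitePresentation G.s] in
/-- Two points with the same image come from an arrow. -/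
theorem exists_pair (w : G.s ≫ p = G.t ≫ p)
    (hpt : ∀ u (K : Type u) [Field K] [IsAlgClosed K] (y₀ y₁ : Spec (CommRingCat.of K) ⟶ (W u).toScheme),
      y₀ ≫ q u = y₁ ≫ q u → ∃ r : Spec (CommRingCat.of K) ⟶ (G.s ⁻¹ᵁ W u).toScheme,
        r ≫ GrpdQuot.tW G (W u) (hW u) = y₀ ∧ r ≫ GrpdQuot.sW G (W u) = y₁) (z : ↥(pullback p p)) :
    ∃ r : G.R, (pullback.lift G.t G.s w.symm) r = z := by
  have hmemc := fun u x => mem_of_range G W q c hsq (u := u) (x := x)
  have hpc := apply_mem_range G W hWm q c hsq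
  let K := AlgebraicClosure ((pullback p p).residueField z)
  let gz : Spec (CommRingCat.of K) ⟶ pullback p p :=
    Spec.map (CommRingCat.ofHom (algebraMap ((pullback p p).residueField z) K)) ≫
      (pullback p p).fromSpecResidueField z
  let pt : Spec (CommRingCat.of K) := IsLocalRing.closedPoint K
  have hgz : ∀ q, gz q = z := fun q => by
    rw [Scheme.Hom.comp_apply]
    exact Scheme.fromSpecResidueField_apply z _
  let x₀ := gz ≫ pullback.fst p p
  let x₁ := gz ≫ pullback.snd p p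
  let u := x₀ pt
  have hx : x₀ ≫ p = x₁ ≫ p := by simp only [x₀, x₁, Category.assoc, pullback.condition]
  have hall : ∀ q : Spec (CommRingCat.of K), x₀ q = u := fun q => by
    change x₀ q = x₀ pt
    simp only [x₀, Scheme.Hom.comp_apply, hgz]
  have hr₀ : Set.range x₀ ⊆ Set.range (W u).ι := by
    rw [Scheme.Opens.range_ι]
    rintro _ ⟨q, rfl⟩
    rw [hall]
    exact hWm u
  have hr₁ : Set.range x₁ ⊆ Set.range (W u).ι := by
    rw [Scheme.Opens.range_ι]
    rintro _ ⟨q, rfl⟩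
    refine hmemc u _ ?_
    rw [← Scheme.Hom.comp_apply, ← hx, Scheme.Hom.comp_apply, hall]
    exact hpc u
  let y₀ := IsOpenImmersion.lift (W u).ι x₀ hr₀
  let y₁ := IsOpenImmersion.lift (W u).ι x₁ hr₁
  have e₀ : y₀ ≫ (W u).ι = x₀ := IsOpenImmersion.lift_fac _ _ _
  have e₁ : y₁ ≫ (W u).ι = x₁ := IsOpenImmersion.lift_fac _ _ _
  have hy : y₀ ≫ q u = y₁ ≫ q u := by
    rw [← cancel_mono (c u), Category.assoc, Category.assoc, ← (hsq u).w]
    exact ((reassoc_of% e₀) p).trans (hx.trans ((reassoc_of% e₁) p).symm)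
  obtain ⟨r, hrt, hrs⟩ := hpt u K y₀ y₁ hy
  refine ⟨(r ≫ (G.s ⁻¹ᵁ W u).ι) pt, ?_⟩
  have e : (r ≫ (G.s ⁻¹ᵁ W u).ι) ≫ pullback.lift G.t G.s w.symm = gz := by
    apply pullback.hom_ext
    · rw [Category.assoc, pullback.lift_fst, Category.assoc, ← Scheme.Hom.resLE_comp_ι G.t (hW u).le,
        reassoc_of% hrt, e₀]
    · rw [Category.assoc, pullback.lift_snd, Category.assoc,
        ← Scheme.Hom.resLE_comp_ι G.s (le_refl (G.s ⁻¹ᵁ W u)), reassoc_of% hrs, e₁]
  rw [← Scheme.Hom.comp_apply, e, hgz]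

include hWm hsq in
omit [IsFinite G.s] [Flat G.s] [LocallyOfFinitePresentation G.s] in
/-- For an equivalence relation, the square is cartesian. -/
theorem isPullback_of_mono (w : G.s ≫ p = G.t ≫ p) [Mono G.j]
    (hloc : ∀ u, IsPullback (GrpdQuot.tW G (W u) (hW u)) (GrpdQuot.sW G (W u)) (q u) (q u)) :
    IsPullback G.t G.s p p := by
  have hmemc := fun u x => mem_of_range G W q c hsq (u := u) (x := x)
  have hpc := apply_mem_range G W hWm q c hsq
  have hm : ∀ {T : Scheme.{u}} {r r' : T ⟶ G.R}, r ≫ G.t = r' ≫ G.t → r ≫ G.s = r' ≫ G.s → r = r' :=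
    fun {T r r'} e e' => (cancel_mono G.j).1 (pullback.hom_ext
      (by simpa only [Grpd.GroupoidScheme.j, Category.assoc, pullback.lift_fst] using e)
      (by simpa only [Grpd.GroupoidScheme.j, Category.assoc, pullback.lift_snd] using e'))
  have hex : ∀ {T : Scheme.{u}} (a b : T ⟶ G.U), a ≫ p = b ≫ p →
      ∃ r : T ⟶ G.R, r ≫ G.t = a ∧ r ≫ G.s = b := by
    intro T a b e
    let O : G.U → T.Opens := fun u => (a ≫ p) ⁻¹ᵁ (c u).opensRange
    have hO : IsOpenCover O := by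
      rw [IsOpenCover, eq_top_iff]
      exact fun x _ => Opens.mem_iSup.2 ⟨a x, hpc (a x)⟩
    have hlift : ∀ u, ∃ r : (O u).toScheme ⟶ G.R,
        r ≫ G.t = (O u).ι ≫ a ∧ r ≫ G.s = (O u).ι ≫ b := by
      intro u
      have ha' : Set.range ((O u).ι ≫ a) ⊆ Set.range (W u).ι := by
        rw [Scheme.Opens.range_ι]
        rintro _ ⟨z, rfl⟩
        exact hmemc u _ z.2
      have hb' : Set.range ((O u).ι ≫ b) ⊆ Set.range (W u).ι := by
        rw [Scheme.Opens.range_ι]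
        rintro _ ⟨z, rfl⟩
        refine hmemc u _ ?_
        rw [← Scheme.Hom.comp_apply, Category.assoc, ← e]
        exact z.2
      have e₀ := IsOpenImmersion.lift_fac (W u).ι _ ha'
      have e₁ := IsOpenImmersion.lift_fac (W u).ι _ hb'
      have eq' : IsOpenImmersion.lift (W u).ι _ ha' ≫ q u =
          IsOpenImmersion.lift (W u).ι _ hb' ≫ q u := by
        rw [← cancel_mono (c u), Category.assoc, Category.assoc, ← (hsq u).w, reassoc_of% e₀,
          reassoc_of% e₁, e]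
      obtain ⟨r, hr₁, hr₂⟩ := (hloc u).exists_lift _ _ eq'
      refine ⟨r ≫ (G.s ⁻¹ᵁ W u).ι, ?_, ?_⟩
      · rw [Category.assoc, ← Scheme.Hom.resLE_comp_ι G.t (hW u).le, reassoc_of% hr₁]
        exact e₀
      · rw [Category.assoc, ← Scheme.Hom.resLE_comp_ι G.s (le_refl (G.s ⁻¹ᵁ W u)), reassoc_of% hr₂]
        exact e₁
    choose r hrt hrs using hlift
    let 𝒱 := T.openCoverOfIsOpenCover O hO
    have hcompat : ∀ i j : G.U, pullback.fst (O i).ι (O j).ι ≫ r i = pullback.snd (O i).ι (O j).ι ≫ r j :=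
      fun i j => hm (by rw [Category.assoc, Category.assoc, hrt, hrt, pullback.condition_assoc])
        (by rw [Category.assoc, Category.assoc, hrs, hrs, pullback.condition_assoc])
    refine ⟨𝒱.glueMorphisms r hcompat, 𝒱.hom_ext _ _ fun (i : G.U) => ?_, 𝒱.hom_ext _ _ fun (i : G.U) => ?_⟩
    · exact (Scheme.Cover.ι_glueMorphisms_assoc 𝒱 r hcompat i _).trans (hrt i)
    · exact (Scheme.Cover.ι_glueMorphisms_assoc 𝒱 r hcompat i _).trans (hrs i)
  refine IsPullback.of_isLimit (PullbackCone.IsLimit.mk (fst := G.t) (snd := G.s) w.symm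
    (fun s => (hex s.fst s.snd s.condition).choose) (fun s => (hex s.fst s.snd s.condition).choose_spec.1)
    (fun s => (hex s.fst s.snd s.condition).choose_spec.2) (fun s m h1 h2 => hm
      (h1.trans (hex s.fst s.snd s.condition).choose_spec.1.symm)
      (h2.trans (hex s.fst s.snd s.condition).choose_spec.2.symm)))


end Abstract

set_option backward.isDefEq.respectTransparency false in
/-- Every orbit in an affine open gives a quotient. -/
theorem exists_isGood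
    (hb : ∀ x : G.U, ∃ V : G.U.Opens, IsAffineOpen V ∧ G.t.base '' (G.s.base ⁻¹' {x}) ⊆ (V : Set G.U)) :
    ∃ (Y : Scheme.{u}) (p : G.U ⟶ Y), IsGood G p := by
  have hnhd : ∀ u : G.U, ∃ W : G.U.Opens, IsAffineOpen W ∧ u ∈ W ∧ G.s ⁻¹ᵁ W = G.t ⁻¹ᵁ W := fun u => by
    obtain ⟨V, hV, hu⟩ := hb u
    obtain ⟨W, h1, -, h2, h3⟩ := GrpdQuot.exists_invariant_affineOpen G u V hV fun r hr => hu ⟨r, hr, rfl⟩
    exact ⟨W, h1, h2, h3⟩
  choose W hWa hWm hW using hnhd
  let g : G.U → Good G := fun u => ⟨W u, _, _, isQ_affine G (hW u) (hWa u)⟩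
  have hcov : IsOpenCover fun V : Good G => V.1 := by
    rw [IsOpenCover, eq_top_iff]
    exact fun x _ => Opens.mem_iSup.2 ⟨g x, hWm x⟩
  obtain ⟨Y, p, c₀, hc₀, w, hcol, hsurj, hopen, hfib, hsq₀⟩ := exists_glue G hcov
  have := hc₀
  choose c hc hsq using fun u => exists_chart G c₀ hsq₀ (hW u) (hWa u)
  have := hc
  let 𝒰 : Y.OpenCover := Scheme.Cover.mkOfCovers G.U (fun u => SpecC (GrpdQuot.restrictGrpd G (W u) (hW u)))
    c (fun y => by
      obtain ⟨x, rfl⟩ := hsurj y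
      obtain ⟨z, hz⟩ := apply_mem_range G W hWm (fun u => qW G (W u) (hW u)) c hsq x
      exact ⟨x, z, hz⟩)
  have hlocal : ∀ (P : MorphismProperty Scheme.{u}) [IsZariskiLocalAtTarget P],
      (∀ u, P (qW G (W u) (hW u))) → P p := fun P _ hP =>
    IsZariskiLocalAtTarget.of_openCover 𝒰 fun (u : G.U) => by
      change P (pullback.snd p (c u))
      rw [← P.cancel_left_of_respectsIso (hsq u).isoPullback.hom, (hsq u).isoPullback_hom_snd]
      exact hP u
  have hint : IsIntegralHom p := hlocal (@IsIntegralHom : MorphismProperty Scheme.{u}) fun u => by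
    obtain ⟨_, _⟩ := affine_chart G (hW u) (hWa u)
    obtain ⟨⟨_, _, _⟩, _⟩ := finite_chart G (hW u)
    exact isIntegralHom_toQuot _
  have hpt : ∀ u (K : Type u) [Field K] [IsAlgClosed K] (y₀ y₁ : Spec (CommRingCat.of K) ⟶ (W u).toScheme),
      y₀ ≫ qW G (W u) (hW u) = y₁ ≫ qW G (W u) (hW u) →
        ∃ r : Spec (CommRingCat.of K) ⟶ (G.s ⁻¹ᵁ W u).toScheme,
        r ≫ GrpdQuot.tW G (W u) (hW u) = y₀ ∧ r ≫ GrpdQuot.sW G (W u) = y₁ := fun u K _ _ y₀ y₁ h => by
    obtain ⟨_, _⟩ := affine_chart G (hW u) (hWa u)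
    obtain ⟨⟨_, _, _⟩, _⟩ := finite_chart G (hW u)
    exact (GrpdQuot.point_eq_iff (GrpdQuot.restrictGrpd G (W u) (hW u)) y₀ y₁).1 h
  have hloc : Mono G.j → ∀ u, IsPullback (GrpdQuot.tW G (W u) (hW u)) (GrpdQuot.sW G (W u))
      (qW G (W u) (hW u)) (qW G (W u) (hW u)) := fun _ u => by
    obtain ⟨_, _⟩ := affine_chart G (hW u) (hWa u)
    obtain ⟨⟨_, _, _⟩, _⟩ := finite_chart G (hW u)
    have := GrpdQuot.mono_j G (W u) (hW u)
    exact GrpdQuot.isPullback_toQuot (GrpdQuot.restrictGrpd G (W u) (hW u))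
  refine ⟨Y, p, w, hcol, hint, hsurj, hopen, hfib,
    exists_pair G W hWm hW (fun u => qW G (W u) (hW u)) c hsq w hpt, fun hU => ?_,
    fun hmono => ⟨?_, isPullback_of_mono G W hWm hW (fun u => qW G (W u) (hW u)) c hsq w (hloc hmono)⟩⟩
  · obtain ⟨c', hc', sq'⟩ := exists_chart G c₀ hsq₀ (V := ⊤) (by simp) (isAffineOpen_top G.U)
    have : Surjective c' := ⟨fun y => by
      obtain ⟨x, rfl⟩ := hsurj y
      exact ⟨_, (congrArg (fun f => f ⟨x, trivial⟩) sq'.w).symm⟩⟩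
    have : IsIso c' := isIso_of_isOpenImmersion_of_opensRange_eq_top c'
      (Opens.ext (Set.range_eq_univ.2 this.surj))
    exact IsAffine.of_isIso (inv c')
  · have key : ∀ u, IsFinite (qW G (W u) (hW u)) ∧ Flat (qW G (W u) (hW u)) ∧
        LocallyOfFinitePresentation (qW G (W u) (hW u)) := fun u => by
      obtain ⟨_, _⟩ := affine_chart G (hW u) (hWa u)
      obtain ⟨⟨_, _, _⟩, _⟩ := finite_chart G (hW u)
      have := GrpdQuot.mono_j G (W u) (hW u)
      exact GrpdQuot.toQuot_finLocFree _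
    exact ⟨hlocal (@IsFinite : MorphismProperty Scheme.{u}) fun u => (key u).1,
      hlocal (@Flat : MorphismProperty Scheme.{u}) fun u => (key u).2.1,
      hlocal (@LocallyOfFinitePresentation : MorphismProperty Scheme.{u}) fun u => (key u).2.2⟩

end Groth.Agent.H81.GrpdCoeq
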