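import Groth.Agent.H81.GrpdCoeq.Main
import Groth.Agent.H63.GrpdRestrict
import Groth.Agent.Lib.GrpdQuot.Quotient
import Groth.Agent.Lib.Flat55.FlatDescend

/-!
Coequalizers of groupoids with a quasi-section.
-/

universe u

open CategoryTheory CategoryTheory.Limits AlgebraicGeometry

namespace Groth.Agent.H81.GrpdCoeq.QuasiSec

open Groth.Agent.H63 Groth.Agent.H63.GrpdBasic Groth.Agent.H63.GrpdRestrict Groth.Agent.Lib

variable {S : Scheme.{u}} (G : Grpd.GroupoidScheme S) {U' : Scheme.{u}} (u : U' ⟶ G.U)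

/-- The arrows with target in `U'`. -/
noncomputable abbrev VV : Scheme.{u} := pullback u G.t

/-- Their source. -/
noncomputable def vv : VV G u ⟶ G.U := pullback.snd u G.t ≫ G.s

/-- The underlying arrow. -/
noncomputable abbrev ar : VV G u ⟶ G.R := pullback.snd u G.t

theorem vv_eq : vv G u = ar G u ≫ G.s := rfl

/-- The target. -/
noncomputable abbrev qq : VV G u ⟶ U' := pullback.fst u G.t

/-- The properties of a quotient through a quasi-section. -/
structure IsGood {Y : Scheme.{u}} (p : G.U ⟶ Y) : Prop where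
  cond : G.t ≫ p = G.s ≫ p
  colim : Nonempty (IsColimit (Cofork.ofπ p cond))
  surj : Surjective p
  openMap : IsOpenMap G.t → IsOpenMap p
  closed : UniversallyClosed G.t → UniversallyClosed p
  pair : Function.Surjective (pullback.lift G.t G.s cond)
  mono : Mono G.j → IsPullback G.t G.s p p ∧ (Flat G.t → Flat p)

variable [IsFinite (vv G u)] [Flat (vv G u)] [LocallyOfFinitePresentation (vv G u)] [Surjective (vv G u)]

theorem exists_conjugate {T : Scheme.{u}} (A B : T ⟶ VV G u) (r' : T ⟶ RR G u)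
    (h₁ : r' ≫ tt G u = A ≫ qq G u) (h₂ : r' ≫ ss G u = B ≫ qq G u) :
    ∃ r : T ⟶ G.R, r ≫ G.t = A ≫ vv G u ∧ r ≫ G.s = B ≫ vv G u := by
  have c₁ : ((A ≫ ar G u) ≫ G.i) ≫ G.s = (r' ≫ pr G u) ≫ G.t := by
    rw [Category.assoc, G.i_s, Category.assoc, Category.assoc, pr_t, reassoc_of% h₁]
    rw [← pullback.condition]
  have c₂ : (r' ≫ pr G u) ≫ G.s = (B ≫ ar G u) ≫ G.t := by
    rw [Category.assoc, Category.assoc, pr_s, reassoc_of% h₂, ← pullback.condition]
  refine ⟨cmp G (cmp G _ _ c₁) _ ((cmp_s G _ _ c₁).trans c₂), ?_, ?_⟩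
  · rw [cmp_t, cmp_t, Category.assoc, G.i_t, Category.assoc, vv_eq]
  · rw [cmp_s, Category.assoc, vv_eq]

set_option backward.isDefEq.respectTransparency false in
theorem exists_isGood [IsImmersion u]
    (h2 : ∀ E : Set U', (∀ x ∈ E, ∀ y ∈ E, ∃ r : G.R, G.t r = u x ∧ G.s r = u y) →
      ∃ W : U'.Opens, IsAffineOpen W ∧ E ⊆ (W : Set U')) :
    ∃ (Y : Scheme.{u}) (p : G.U ⟶ Y), IsGood G p := by
  let G' := GrpdRestrict.restrict G u
  have : IsFinite G'.s := MorphismProperty.pullback_snd (P := (@IsFinite : MorphismProperty Scheme.{u})) _ _ ‹_›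
  have : Flat G'.s := MorphismProperty.pullback_snd (P := (@Flat : MorphismProperty Scheme.{u})) _ _ ‹_›
  have : LocallyOfFinitePresentation G'.s :=
    MorphismProperty.pullback_snd (P := (@LocallyOfFinitePresentation : MorphismProperty Scheme.{u})) _ _ ‹_›
  have hfib' : ∀ x : G'.U, ∃ V : G'.U.Opens, IsAffineOpen V ∧
      G'.t.base '' (G'.s.base ⁻¹' {x}) ⊆ (V : Set G'.U) := fun x => by
    refine h2 _ ?_
    rintro _ ⟨r₁, hr₁, rfl⟩ _ ⟨r₂, hr₂, rfl⟩
    obtain ⟨a, hat, has⟩ := GrpdQuot.exists_comp_point G' r₁ (G'.i r₂)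
      (by rw [hr₁, ← Scheme.Hom.comp_apply, G'.i_t]; exact (Set.mem_singleton_iff.1 hr₂).symm)
    rw [← Scheme.Hom.comp_apply, G'.i_s] at has
    obtain ⟨a, rfl⟩ : ∃ a' : ↥(RR G u), a' = a := ⟨a, rfl⟩
    refine ⟨pr G u a, ?_, ?_⟩
    · rw [← Scheme.Hom.comp_apply, pr_t, Scheme.Hom.comp_apply]
      exact congrArg u hat
    · rw [← Scheme.Hom.comp_apply, pr_s, Scheme.Hom.comp_apply]
      exact congrArg u has
  obtain ⟨Y, p', hp'⟩ := GrpdCoeq.exists_isGood G' hfib'
  obtain ⟨p', rfl⟩ : ∃ p'' : U' ⟶ Y, p'' = p' := ⟨p', rfl⟩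
  have hw' : ss G u ≫ p' = tt G u ≫ p' := hp'.cond
  obtain ⟨p, hp, -⟩ := GrpdQuot.exists_desc_scheme (vv G u) (IsPullback.of_hasPullback (vv G u) (vv G u))
    (qq G u ≫ p') (by
      let A := pullback.fst (vv G u) (vv G u)
      let B := pullback.snd (vv G u) (vv G u)
      have hAB : (A ≫ ar G u) ≫ G.s = ((B ≫ ar G u) ≫ G.i) ≫ G.t := by
        simp only [A, B, Category.assoc, G.i_t, ← vv_eq]
        exact pullback.condition
      let m := GrpdRestrict.mk G u (A ≫ qq G u) (cmp G _ _ hAB) (B ≫ qq G u)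
        (by rw [cmp_t, Category.assoc, Category.assoc, pullback.condition])
        (by rw [cmp_s, Category.assoc, Category.assoc, G.i_s, Category.assoc, pullback.condition])
      have h1 : m ≫ tt G u = A ≫ qq G u := mk_tt ..
      have h2 : m ≫ ss G u = B ≫ qq G u := mk_ss ..
      change A ≫ qq G u ≫ p' = B ≫ qq G u ≫ p'
      rw [← reassoc_of% h1, ← reassoc_of% h2, hw'])
  let σ : U' ⟶ VV G u := pullback.lift (𝟙 U') (u ≫ G.e)
    (by rw [Category.id_comp, Category.assoc, G.e_t, Category.comp_id])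
  have hσq : σ ≫ qq G u = 𝟙 U' := pullback.lift_fst _ _ _
  have hσv : σ ≫ vv G u = u := by
    rw [vv_eq, ← Category.assoc, pullback.lift_snd, Category.assoc, G.e_s, Category.comp_id]
  have hup : u ≫ p = p' := by
    rw [← hσv, Category.assoc, hp, reassoc_of% hσq]
  have hw : G.t ≫ p = G.s ≫ p := by
    let π := pullback.snd (vv G u) G.s
    let z := pullback.fst (vv G u) G.s
    have hz : (z ≫ ar G u) ≫ G.s = (π ≫ G.i) ≫ G.t := by
      simp only [z, π, Category.assoc, G.i_t, ← vv_eq]
      exact pullback.condition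
    let x : pullback (vv G u) G.s ⟶ VV G u := pullback.lift (z ≫ qq G u) (cmp G _ _ hz)
      (by rw [cmp_t, Category.assoc, Category.assoc, pullback.condition])
    have hx : x ≫ vv G u = π ≫ G.t := by
      change x ≫ ar G u ≫ G.s = π ≫ G.t
      rw [← Category.assoc, pullback.lift_snd, cmp_s, Category.assoc, G.i_s]
    have : Flat π := inferInstance
    have : Surjective π := inferInstance
    have : QuasiCompact π := inferInstance
    refine (GrpdQuot.exists_desc_scheme π (IsPullback.of_hasPullback π π) (π ≫ G.s ≫ p)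
      (by rw [pullback.condition_assoc])).unique ?_ rfl
    rw [← reassoc_of% hx, hp, pullback.lift_fst_assoc, Category.assoc, ← hp,
      ← pullback.condition_assoc]
  have hpair : Function.Surjective (pullback.lift G.t G.s hw) := by
    have hpair' : Surjective (pullback.lift (tt G u) (ss G u) hw'.symm) := ⟨fun z => hp'.pair z⟩
    let β : pullback (vv G u ≫ p) (vv G u ≫ p) ⟶ pullback p p :=
      pullback.map _ _ p p (vv G u) (vv G u) (𝟙 Y) (by simp) (by simp)
    have : Surjective β := MorphismProperty.pullback_map (P := (@Surjective : MorphismProperty Scheme.{u}))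
      ‹Surjective (vv G u)› ‹Surjective (vv G u)› rfl rfl
    let γ : pullback (vv G u ≫ p) (vv G u ≫ p) ⟶ pullback p' p' :=
      pullback.map _ _ p' p' (qq G u) (qq G u) (𝟙 Y) (by simp [hp]) (by simp [hp])
    let π₁ := pullback.fst γ (pullback.lift (tt G u) (ss G u) hw'.symm)
    let π₂ := pullback.snd γ (pullback.lift (tt G u) (ss G u) hw'.symm)
    have h₁ : π₂ ≫ tt G u = (π₁ ≫ pullback.fst _ _) ≫ qq G u := by
      have := congrArg (· ≫ pullback.fst p' p') (pullback.condition (f := γ)
        (g := pullback.lift (tt G u) (ss G u) hw'.symm))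
      simpa [π₁, π₂, γ, pullback.map, pullback.lift_fst, pullback.lift_fst_assoc] using this.symm
    have h₂ : π₂ ≫ ss G u = (π₁ ≫ pullback.snd _ _) ≫ qq G u := by
      have := congrArg (· ≫ pullback.snd p' p') (pullback.condition (f := γ)
        (g := pullback.lift (tt G u) (ss G u) hw'.symm))
      simpa [π₁, π₂, γ, pullback.map, pullback.lift_snd, pullback.lift_snd_assoc] using this.symm
    obtain ⟨τ, hτt, hτs⟩ := exists_conjugate G u _ _ π₂ h₁ h₂
    have e : τ ≫ pullback.lift G.t G.s hw = π₁ ≫ β := by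
      apply pullback.hom_ext
      · exact (Category.assoc _ _ _).trans ((congrArg (τ ≫ ·) (pullback.lift_fst _ _ _)).trans
          (hτt.trans ((Category.assoc _ _ _).trans
          ((congrArg (π₁ ≫ ·) (pullback.lift_fst _ _ _).symm).trans (Category.assoc _ _ _).symm))))
      · exact (Category.assoc _ _ _).trans ((congrArg (τ ≫ ·) (pullback.lift_snd _ _ _)).trans
          (hτs.trans ((Category.assoc _ _ _).trans
          ((congrArg (π₁ ≫ ·) (pullback.lift_snd _ _ _).symm).trans (Category.assoc _ _ _).symm))))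
    have : Surjective (τ ≫ pullback.lift G.t G.s hw) := e ▸ (inferInstance : Surjective (π₁ ≫ β))
    exact (Surjective.of_comp τ _).surj
  have hsp : Surjective p := by
    have : Surjective p' := ⟨hp'.surj⟩
    rw [← hup] at this
    exact Surjective.of_comp u p
  refine ⟨Y, p, hw, ⟨?_⟩, hsp, fun hop => ?_, fun hcl => ?_, hpair, fun hmono => ?_⟩
  · refine Cofork.IsColimit.mk' _ fun c => ?_
    have hc' : ss G u ≫ u ≫ c.π = tt G u ≫ u ≫ c.π := by
      rw [← reassoc_of% pr_s G u, ← reassoc_of% pr_t G u, c.condition]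
    let g : Y ⟶ c.pt := hp'.colim.some.desc (Cofork.ofπ (u ≫ c.π) hc')
    have hg : p' ≫ g = u ≫ c.π := hp'.colim.some.fac (Cofork.ofπ (u ≫ c.π) hc') WalkingParallelPair.one
    refine ⟨g, ?_, fun {m} hm => ?_⟩
    · refine (GrpdQuot.exists_desc_scheme (vv G u) (IsPullback.of_hasPullback _ _) (vv G u ≫ c.π)
        (by rw [pullback.condition_assoc])).unique ?_ rfl
      change vv G u ≫ p ≫ g = vv G u ≫ c.π
      rw [reassoc_of% hp, hg, pullback.condition_assoc, c.condition, vv_eq, Category.assoc]
    · refine Cofork.IsColimit.hom_ext hp'.colim.some ?_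
      change p' ≫ m = p' ≫ g
      rw [hg, ← hm, ← hup, Category.assoc]
      rfl
  · have hqm : Topology.IsQuotientMap p := by
      have h1 : Topology.IsQuotientMap (qq G u) :=
        Topology.IsQuotientMap.of_comp σ.continuous (qq G u).continuous (by
          have : (qq G u ∘ σ : U' → U') = id := funext fun z => by
            rw [Function.comp_apply, ← Scheme.Hom.comp_apply, hσq]; rfl
          rw [this]; exact Topology.IsQuotientMap.id)
      have h2 : Topology.IsQuotientMap (qq G u ≫ p') :=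
        (hp'.openMap.isQuotientMap p'.continuous hp'.surj).comp h1
      rw [← hp] at h2
      exact Topology.IsQuotientMap.of_comp (vv G u).continuous p.continuous h2
    intro O hO
    rw [← hqm.isCoinducing.isOpen_preimage]
    have e : p ⁻¹' (p '' O) = G.t '' (G.s ⁻¹' O) := by
      ext x
      constructor
      · rintro ⟨o, ho, hox⟩
        obtain ⟨z, hz1, hz2⟩ := Scheme.Pullback.exists_preimage_pullback x o hox.symm
        obtain ⟨r, rfl⟩ := hpair z
        rw [← Scheme.Hom.comp_apply, pullback.lift_fst] at hz1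
        rw [← Scheme.Hom.comp_apply, pullback.lift_snd] at hz2
        exact ⟨r, show G.s r ∈ O from hz2 ▸ ho, hz1⟩
      · rintro ⟨r, hr, rfl⟩
        exact ⟨_, hr, by rw [← Scheme.Hom.comp_apply, ← Scheme.Hom.comp_apply, hw]⟩
    rw [e]
    exact hop _ (hO.preimage G.s.continuous)
  · have := hp'.integral
    have : UniversallyClosed (qq G u) :=
      MorphismProperty.pullback_fst (P := (@UniversallyClosed : MorphismProperty Scheme.{u})) _ _ hcl
    have : UniversallyClosed (vv G u ≫ p) := by rw [hp]; infer_instance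
    exact UniversallyClosed.of_comp_surjective (vv G u) p
  have hmj : Mono G'.j := ⟨fun {T} a b e => by
    have e1 := congrArg (· ≫ pullback.fst _ _) e
    have e2 := congrArg (· ≫ pullback.snd _ _) e
    simp only [Grpd.GroupoidScheme.j, Category.assoc, pullback.lift_fst, pullback.lift_snd] at e1 e2
    obtain ⟨a, rfl⟩ : ∃ a' : T ⟶ RR G u, a' = a := ⟨a, rfl⟩
    obtain ⟨b, rfl⟩ : ∃ b' : T ⟶ RR G u, b' = b := ⟨b, rfl⟩
    replace e1 : a ≫ tt G u = b ≫ tt G u := e1
    replace e2 : a ≫ ss G u = b ≫ ss G u := e2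
    refine GrpdRestrict.ext G u e1 ((cancel_mono G.j).1 (pullback.hom_ext ?_ ?_)) e2
    · simp only [Grpd.GroupoidScheme.j, Category.assoc, pullback.lift_fst, pr_t, reassoc_of% e1]
    · simp only [Grpd.GroupoidScheme.j, Category.assoc, pullback.lift_snd, pr_s, reassoc_of% e2]⟩
  obtain ⟨⟨hf1, hf2, hf3⟩, hsq'⟩ := hp'.free hmj
  have hm : ∀ {T : Scheme.{u}} {r r' : T ⟶ G.R}, r ≫ G.t = r' ≫ G.t → r ≫ G.s = r' ≫ G.s → r = r' :=
    fun {T r r'} e e' => (cancel_mono G.j).1 (pullback.hom_ext
      (by simpa only [Grpd.GroupoidScheme.j, Category.assoc, pullback.lift_fst] using e)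
      (by simpa only [Grpd.GroupoidScheme.j, Category.assoc, pullback.lift_snd] using e'))
  refine ⟨?_, fun ht => ?_⟩
  · have hex : ∀ {T : Scheme.{u}} (a b : T ⟶ G.U), a ≫ p = b ≫ p →
        ∃ r : T ⟶ G.R, r ≫ G.t = a ∧ r ≫ G.s = b := by
      intro T a b e
      let πa := pullback.snd (vv G u) a
      let πb := pullback.snd (vv G u) b
      let δ := pullback.fst πa πb ≫ πa
      let A := pullback.fst πa πb ≫ pullback.fst (vv G u) a
      let B := pullback.snd πa πb ≫ pullback.fst (vv G u) b
      have hA : A ≫ vv G u = δ ≫ a :=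
        (Category.assoc _ _ _).trans ((congrArg (pullback.fst πa πb ≫ ·) pullback.condition).trans
          (Category.assoc _ _ _).symm)
      have hB : B ≫ vv G u = δ ≫ b :=
        (Category.assoc _ _ _).trans ((congrArg (pullback.snd πa πb ≫ ·) pullback.condition).trans
          ((Category.assoc _ _ _).symm.trans (congrArg (· ≫ b) pullback.condition.symm)))
      have hq' : (A ≫ qq G u) ≫ p' = (B ≫ qq G u) ≫ p' := by
        have hA' : (A ≫ vv G u) ≫ p = (A ≫ qq G u) ≫ p' :=
          (Category.assoc _ _ _).trans ((congrArg (A ≫ ·) hp).trans (Category.assoc _ _ _).symm)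
        have hB' : (B ≫ vv G u) ≫ p = (B ≫ qq G u) ≫ p' :=
          (Category.assoc _ _ _).trans ((congrArg (B ≫ ·) hp).trans (Category.assoc _ _ _).symm)
        rw [← hA', ← hB', hA, hB, Category.assoc, Category.assoc, e]
        simp only [δ, Category.assoc]
      obtain ⟨r', hr1, hr2⟩ := hsq'.exists_lift _ _ hq'
      obtain ⟨r', rfl⟩ : ∃ r'' : _ ⟶ RR G u, r'' = r' := ⟨r', rfl⟩
      obtain ⟨τ, hτt, hτs⟩ := exists_conjugate G u A B r' hr1 hr2
      have : Flat δ := inferInstance
      have : Surjective δ := inferInstance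
      have : QuasiCompact δ := inferInstance
      obtain ⟨r, hr, -⟩ := GrpdQuot.exists_desc_scheme δ (IsPullback.of_hasPullback δ δ) τ
        (hm (by simp only [Category.assoc, hτt, hA, pullback.condition_assoc])
          (by simp only [Category.assoc, hτs, hB, pullback.condition_assoc]))
      refine ⟨r, ?_, ?_⟩
      · refine (GrpdQuot.exists_desc_scheme δ (IsPullback.of_hasPullback δ δ) (δ ≫ a)
          (by rw [pullback.condition_assoc])).unique ?_ rfl
        rw [reassoc_of% hr, hτt, hA]
      · refine (GrpdQuot.exists_desc_scheme δ (IsPullback.of_hasPullback δ δ) (δ ≫ b)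
          (by rw [pullback.condition_assoc])).unique ?_ rfl
        rw [reassoc_of% hr, hτs, hB]
    exact IsPullback.of_isLimit (PullbackCone.IsLimit.mk (fst := G.t) (snd := G.s) hw
      (fun s => (hex s.fst s.snd s.condition).choose) (fun s => (hex s.fst s.snd s.condition).choose_spec.1)
      (fun s => (hex s.fst s.snd s.condition).choose_spec.2) (fun s m h1 h2 => hm
        (h1.trans (hex s.fst s.snd s.condition).choose_spec.1.symm)
        (h2.trans (hex s.fst s.snd s.condition).choose_spec.2.symm)))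
  · have : Flat (qq G u) := MorphismProperty.pullback_fst (P := (@Flat : MorphismProperty Scheme.{u})) _ _ ht
    have : Flat (vv G u ≫ p) := by rw [hp]; infer_instance
    exact Flat55.FlatDescend.flat_of_comp (vv G u) p

end Groth.Agent.H81.GrpdCoeq.QuasiSec
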