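import Mathlib.AlgebraicGeometry.Morphisms.Integral
import Mathlib.AlgebraicGeometry.Morphisms.UniversallyOpen
import Groth.Agent.Lib.GrpdQuot.Affine
import Groth.Agent.H81.GrpdCoeq.Def

/-!
Sections of the affine quotient: functions on opens of `Spec` of the invariants are the invariant functions.
-/

universe u

open CategoryTheory CategoryTheory.Limits AlgebraicGeometry TopologicalSpace Opposite

namespace Groth.Agent.H81.GrpdCoeq

open Groth.Agent.Lib

variable {S : Scheme.{u}} (G : Grpd.GroupoidScheme S)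

/-- The base of the affine quotient. -/
noncomputable abbrev SpecC : Scheme.{u} := Spec (CommRingCat.of G.invariants)

theorem toQuot_appTop (c : G.invariants) :
    G.toQuot.appTop.hom ((Scheme.ΓSpecIso (CommRingCat.of G.invariants)).inv c) = c.1 := by
  have e : (Scheme.ΓSpecIso (CommRingCat.of G.invariants)).inv ≫ G.toQuot.appTop =
      CommRingCat.ofHom G.invariants.subtype := by
    rw [Grpd.GroupoidScheme.toQuot, Scheme.Hom.comp_appTop, Scheme.toSpecΓ_appTop,
      ← Category.assoc, ← Scheme.ΓSpecIso_inv_naturality, Category.assoc, Iso.inv_hom_id, Category.comp_id]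
  exact congr($e c)

theorem s_toQuot_gen : G.s ≫ G.toQuot = G.t ≫ G.toQuot := by
  simp only [Grpd.GroupoidScheme.toQuot, Scheme.toSpecΓ_naturality_assoc, ← Spec.map_comp]
  congr 2
  ext a
  exact a.2

theorem preimage_eq (V : (SpecC G).Opens) : G.s ⁻¹ᵁ (G.toQuot ⁻¹ᵁ V) = G.t ⁻¹ᵁ (G.toQuot ⁻¹ᵁ V) := by
  rw [← Scheme.Hom.comp_preimage, ← Scheme.Hom.comp_preimage, s_toQuot_gen]

/-- Invariance of a function on the preimage of an open of the quotient. -/
def InvSec (V : (SpecC G).Opens) (a : Γ(G.U, G.toQuot ⁻¹ᵁ V)) : Prop :=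
  (G.s.appLE (G.toQuot ⁻¹ᵁ V) (G.s ⁻¹ᵁ (G.toQuot ⁻¹ᵁ V)) le_rfl).hom a =
    (G.t.appLE (G.toQuot ⁻¹ᵁ V) (G.s ⁻¹ᵁ (G.toQuot ⁻¹ᵁ V)) (preimage_eq G V).le).hom a

theorem InvSec.res {V V' : (SpecC G).Opens} (h : V' ≤ V) {a : Γ(G.U, G.toQuot ⁻¹ᵁ V)} (ha : InvSec G V a) :
    InvSec G V' ((G.U.presheaf.map (homOfLE (G.toQuot.preimage_mono h)).op).hom a) := by
  have := congrArg (G.R.presheaf.map (homOfLE (G.s.preimage_mono (G.toQuot.preimage_mono h))).op).hom ha
  simp only [InvSec, ← CommRingCat.comp_apply, Scheme.Hom.map_appLE, Scheme.Hom.appLE_map] at this ⊢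
  exact this

variable [IsAffine G.U] [IsAffine G.R]

/-- Basic opens. -/
noncomputable abbrev D (c : G.invariants) : (SpecC G).Opens :=
  (SpecC G).basicOpen ((Scheme.ΓSpecIso (CommRingCat.of G.invariants)).inv c)

theorem preimage_D (c : G.invariants) : G.toQuot ⁻¹ᵁ D G c = G.U.basicOpen (c : Γ(G.U, ⊤)) := by
  rw [Scheme.preimage_basicOpen]
  exact congrArg G.U.basicOpen (toQuot_appTop G c)

theorem exists_basic {V : (SpecC G).Opens} {y : SpecC G} (hy : y ∈ V) :
    ∃ c, y ∈ D G c ∧ D G c ≤ V := by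
  obtain ⟨f, hf, hy⟩ := (isAffineOpen_top (SpecC G)).exists_basicOpen_le (⟨y, hy⟩ : V) (Set.mem_univ y)
  refine ⟨(Scheme.ΓSpecIso (CommRingCat.of G.invariants)).hom f, ?_⟩
  have e : (Scheme.ΓSpecIso (CommRingCat.of G.invariants)).inv
      ((Scheme.ΓSpecIso (CommRingCat.of G.invariants)).hom f) = f :=
    congr($((Scheme.ΓSpecIso (CommRingCat.of G.invariants)).hom_inv_id) f)
  rw [D, e]
  exact ⟨hy, hf⟩

section Basic

/-- Localizing an equalizer of ring maps. -/
theorem localized_equalizer {C A B : Type u} [CommRing C] [CommRing A] [CommRing B] (f : C)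
    (q : C →+* A) (hq : Function.Injective q) (σ τ : A →+* B)
    (hrange : ∀ a, σ a = τ a → ∃ x, q x = a) (hqst : ∀ x, σ (q x) = τ (q x))
    {C' A' B' : Type u} [CommRing C'] [CommRing A'] [CommRing B']
    (lC : C →+* C') (lA : A →+* A') (lB : B →+* B')
    (hC : @IsLocalization.Away C _ f C' _ lC.toAlgebra)
    (hA : @IsLocalization.Away A _ (q f) A' _ lA.toAlgebra)
    (hB : @IsLocalization.Away B _ (σ (q f)) B' _ lB.toAlgebra)
    (q' : C' →+* A') (σ' τ' : A' →+* B') (h1 : ∀ x, q' (lC x) = lA (q x))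
    (h2 : ∀ x, σ' (lA x) = lB (σ x)) (h3 : ∀ x, τ' (lA x) = lB (τ x)) :
    Function.Injective q' ∧ ∀ a, σ' a = τ' a → a ∈ Set.range q' := by
  let _ := lC.toAlgebra
  let _ := lA.toAlgebra
  let _ := lB.toAlgebra
  have hu : IsUnit (lC f) := IsLocalization.Away.algebraMap_isUnit (S := C') f
  refine ⟨(injective_iff_map_eq_zero q').2 fun y hy => ?_, fun a ha => ?_⟩
  · obtain ⟨⟨x, ⟨_, n, rfl⟩⟩, hx⟩ := IsLocalization.surj (Submonoid.powers f) y
    replace hx : y * lC (f ^ n) = lC x := hx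
    have h0 : algebraMap A A' (q x) = 0 := by
      change lA (q x) = 0
      rw [← h1, ← hx, map_mul, hy, zero_mul]
    obtain ⟨⟨_, m, rfl⟩, hm⟩ := (IsLocalization.map_eq_zero_iff (Submonoid.powers (q f)) _ _).1 h0
    have hx0 : f ^ m * x = 0 := hq (by rw [map_mul, map_pow, map_zero]; exact hm)
    have key : lC f ^ (m + n) * y = 0 := by
      rw [pow_add, mul_assoc, mul_comm _ y, ← map_pow lC f n, hx, ← map_pow, ← map_mul, hx0, map_zero]
    exact (hu.pow (m + n)).mul_right_eq_zero.1 key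
  · obtain ⟨⟨b, ⟨_, n, rfl⟩⟩, hb⟩ := IsLocalization.surj (Submonoid.powers (q f)) a
    replace hb : a * lA (q f ^ n) = lA b := hb
    have e : algebraMap B B' (σ b) = algebraMap B B' (τ b) := by
      change lB (σ b) = lB (τ b)
      rw [← h2, ← h3, ← hb, map_mul, map_mul, ← ha, h2, h3]
      simp only [map_pow, hqst]
    obtain ⟨⟨_, m, rfl⟩, hm⟩ := (IsLocalization.eq_iff_exists (Submonoid.powers (σ (q f))) _).1 e
    replace hm : σ (q f) ^ m * σ b = σ (q f) ^ m * τ b := hm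
    obtain ⟨x, hx⟩ := hrange (q f ^ m * b) (by rw [map_mul, map_mul, map_pow, map_pow, hm, hqst])
    obtain ⟨v, hv⟩ := hu.pow (m + n)
    refine ⟨lC x * ↑v⁻¹, ((v.isUnit.map q').mul_left_inj).1 ?_⟩
    rw [← map_mul, Units.inv_mul_cancel_right, hv, h1, hx, map_mul, ← hb, map_pow q', h1, map_pow lA,
      map_pow lA, pow_add]
    ring

variable (c : G.invariants)

theorem toQuot_D :
    Function.Injective (G.toQuot.app (D G c)).hom ∧
      ∀ a, InvSec G (D G c) a → a ∈ Set.range (G.toQuot.app (D G c)).hom := by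
  have hsurj : ∀ x, ∃ z, (Scheme.ΓSpecIso (CommRingCat.of G.invariants)).inv z = x := fun x =>
    ⟨_, congr($((Scheme.ΓSpecIso (CommRingCat.of G.invariants)).hom_inv_id) x)⟩
  refine localized_equalizer ((Scheme.ΓSpecIso (CommRingCat.of G.invariants)).inv c) G.toQuot.appTop.hom
    ?_ G.s.appTop.hom G.t.appTop.hom ?_ ?_ ((SpecC G).presheaf.map (homOfLE (le_top : D G c ≤ ⊤)).op).hom
    (G.U.presheaf.map (homOfLE (le_top : G.toQuot ⁻¹ᵁ D G c ≤ ⊤)).op).hom
    (G.R.presheaf.map (homOfLE (le_top : G.s ⁻¹ᵁ (G.toQuot ⁻¹ᵁ D G c) ≤ ⊤)).op).hom ?_ ?_ ?_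
    (G.toQuot.app (D G c)).hom (G.s.appLE (G.toQuot ⁻¹ᵁ D G c) _ le_rfl).hom
    (G.t.appLE (G.toQuot ⁻¹ᵁ D G c) _ (preimage_eq G _).le).hom ?_ ?_ ?_
  · intro x x' h
    obtain ⟨z, rfl⟩ := hsurj x
    obtain ⟨z', rfl⟩ := hsurj x'
    rw [toQuot_appTop, toQuot_appTop] at h
    rw [Subtype.ext h]
  · intro a ha
    exact ⟨_, toQuot_appTop G ⟨a, ha⟩⟩
  · intro x
    obtain ⟨z, rfl⟩ := hsurj x
    rw [toQuot_appTop]
    exact z.2
  · exact (isAffineOpen_top (SpecC G)).isLocalization_of_eq_basicOpen _ (homOfLE le_top) rfl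
  · refine (isAffineOpen_top G.U).isLocalization_of_eq_basicOpen _ (homOfLE le_top) ?_
    exact (preimage_D G c).trans (congrArg G.U.basicOpen (toQuot_appTop G c).symm)
  · refine (isAffineOpen_top G.R).isLocalization_of_eq_basicOpen _ (homOfLE le_top) ?_
    rw [preimage_D, ← toQuot_appTop G c]
    exact Scheme.preimage_basicOpen G.s _
  · exact fun x => congr($((G.toQuot.naturality (homOfLE (le_top : D G c ≤ ⊤)).op)) x)
  · intro z
    change (G.U.presheaf.map _ ≫ G.s.appLE _ _ _) z = (G.s.appTop ≫ G.R.presheaf.map _) z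
    rw [Scheme.Hom.map_appLE]
    rfl
  · intro z
    change (G.U.presheaf.map _ ≫ G.t.appLE _ _ _) z = (G.t.appTop ≫ G.R.presheaf.map _) z
    rw [Scheme.Hom.map_appLE]
    rfl

end Basic

theorem injective_app (V : (SpecC G).Opens) : Function.Injective (G.toQuot.app V).hom := by
  intro y y' h
  refine TopCat.Sheaf.eq_of_locally_eq' (SpecC G).sheaf (fun c : {c // D G c ≤ V} => D G c.1) V
    (fun c => homOfLE c.2) (fun y hy => ?_) _ _ fun c => (toQuot_D G c.1).1 ?_
  · obtain ⟨c, hc, hcV⟩ := exists_basic G hy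
    exact Opens.mem_iSup.2 ⟨⟨c, hcV⟩, hc⟩
  · change ((SpecC G).presheaf.map _ ≫ G.toQuot.app _) y = ((SpecC G).presheaf.map _ ≫ G.toQuot.app _) y'
    rw [G.toQuot.naturality]
    exact congrArg (G.U.presheaf.map _).hom h

/-- Being in the image of the functions of the target is local on the target. -/
theorem range_of_cover {X Y : Scheme.{u}} (q : X ⟶ Y) (hinj : ∀ V, Function.Injective (q.app V).hom)
    {ι : Type u} (O : ι → Y.Opens) {V : Y.Opens} (hO : ∀ i, O i ≤ V) (hcov : ∀ v ∈ V, ∃ i, v ∈ O i)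
    (a : Γ(X, q ⁻¹ᵁ V)) (ha : ∀ i, (X.presheaf.map (homOfLE (q.preimage_mono (hO i))).op).hom a ∈
      Set.range (q.app (O i)).hom) :
    a ∈ Set.range (q.app V).hom := by
  choose y hy using ha
  have hnat : ∀ {V' V'' : Y.Opens} (h : V' ≤ V'') (z : Γ(Y, V'')),
      (q.app V').hom ((Y.presheaf.map (homOfLE h).op).hom z) =
        (X.presheaf.map (homOfLE (q.preimage_mono h)).op).hom ((q.app V'').hom z) := fun h z =>
    congr($(q.naturality (homOfLE h).op) z)
  obtain ⟨z, hz, -⟩ := TopCat.Sheaf.existsUnique_gluing' Y.sheaf O V (fun i => homOfLE (hO i))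
    (fun x hx => Opens.mem_iSup.2 (hcov x hx)) y (fun i i' => hinj _ (by
      change (q.app _).hom ((Y.presheaf.map _).hom (y i)) = (q.app _).hom ((Y.presheaf.map _).hom (y i'))
      erw [hnat inf_le_left, hnat inf_le_right, hy, hy]
      rw [← CommRingCat.comp_apply, ← CommRingCat.comp_apply, ← Functor.map_comp, ← Functor.map_comp]
      rfl))
  refine ⟨z, TopCat.Sheaf.eq_of_locally_eq' X.sheaf (fun i => q ⁻¹ᵁ O i) _
    (fun i => homOfLE (q.preimage_mono (hO i))) (fun x hx => Opens.mem_iSup.2 (hcov (q x) hx)) _ _ fun i => ?_⟩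
  exact ((hnat (hO i) z).symm.trans (congrArg (q.app (O i)).hom (hz i))).trans (hy i)

theorem range_app {V : (SpecC G).Opens} {a : Γ(G.U, G.toQuot ⁻¹ᵁ V)} (ha : InvSec G V a) :
    a ∈ Set.range (G.toQuot.app V).hom :=
  range_of_cover G.toQuot (injective_app G) (fun c : {c // D G c ≤ V} => D G c.1) (fun c => c.2)
    (fun _ hx => let ⟨c, hc, hcV⟩ := exists_basic G hx; ⟨⟨c, hcV⟩, hc⟩) a
    (fun c => (toQuot_D G c.1).2 _ (InvSec.res G c.2 ha))

end Groth.Agent.H81.GrpdCoeq
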